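import Groth.Agent.AlbLib.Split
import Groth.Agent.CubeConsLib.Transpose
import Groth.Agent.GrpFieldLib.Neutral
import Groth.Agent.GrpFieldLib.Comps
import Groth.Prelude

/-!
# Smooth connected groups as varieties
-/

set_option autoImplicit false
set_option linter.style.haveILetI false
set_option backward.isDefEq.respectTransparency false

universe u

open CategoryTheory CategoryTheory.Limits MonoidalCategory CartesianMonoidalCategory AlgebraicGeometry
open scoped MonObj

noncomputable section

namespace AlbLib

variable {k : Type u} [Field k]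

/-- A smooth connected group scheme over a field is a variety. -/
theorem geometricallyIntegral_grp (G : Over (Spec (CommRingCat.of k))) [GrpObj G] [Smooth G.hom]
    [ConnectedSpace G.left] : GeometricallyIntegral G.hom := by
  haveI : Flat G.hom := Groth.Agent.GrpField.flat_field _
  haveI : GeometricallyReduced G.hom := AbSchLib.geometricallyReduced_of_smooth G.hom
  haveI : GeometricallyIrreducible G.hom := by
    have h := Groth.Agent.GrpField.geometricallyIrreducible_of_range (G := G) (𝟙 G.left) (by
      rw [← Groth.Agent.GrpField.connectedComponent_unit, PreconnectedSpace.connectedComponent_eq_univ]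
      exact Set.range_eq_univ.2 fun x => ⟨x, rfl⟩)
    rwa [Category.id_comp] at h
  exact GeometricallyIntegral.of_geometricallyReduced_of_geometricallyIrreducible G.hom

/-- A pointed map from a group variety to an abelian variety is a homomorphism. -/
theorem isMonHom_of_pointed {G A : Over (Spec (CommRingCat.of k))} [GrpObj G] [LocallyOfFiniteType G.hom]
    [GeometricallyIntegral G.hom] [GrpObj A] [IsProper A.hom] [GeometricallyIntegral A.hom] (f : G ⟶ A)
    (hf : η[G] ≫ f = η[A]) : IsMonHom f := by
  haveI : IsCommMonObj A := CubeConsLib.isCommMonObj_field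
  haveI : IsSeparated G.hom := Groth.Agent.GrpField.isSeparated_grp (G := G)
  refine { one_hom := hf, mul_hom := ?_ }
  have h := split (μ[G] ≫ f) η[G] η[G]
  have e1 : lift (toUnit G ≫ η[G]) (𝟙 G) ≫ μ[G] = 𝟙 G := MonObj.lift_comp_one_left (toUnit G) (𝟙 G)
  have e2 : lift (𝟙 G) (toUnit G ≫ η[G]) ≫ μ[G] = 𝟙 G := MonObj.lift_comp_one_right (𝟙 G) (toUnit G)
  have e3 : lift η[G] η[G] ≫ μ[G] = η[G] := by
    have := MonObj.lift_comp_one_right η[G] (𝟙 (𝟙_ (Over (Spec (CommRingCat.of k)))))
    rwa [Category.id_comp] at this
  rw [reassoc_of% e1, reassoc_of% e2, reassoc_of% e3, hf, ← Hom.one_def, inv_one, one_mul, mul_comm] at h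
  rw [h, Hom.mul_def, show f ⊗ₘ f = lift (fst G G ≫ f) (snd G G ≫ f) from CartesianMonoidalCategory.hom_ext _ _ (by simp) (by simp)]

end AlbLib
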