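import Groth.Agent.AlbLib.Torus
import Groth.Agent.AlbLib.AVBasic
import Groth.Agent.AntiAffLib.Descend
import Groth.Agent.S7982
import Groth.Prelude

/-!
# Extensions of abelian varieties by tori
-/

set_option autoImplicit false
set_option linter.style.haveILetI false
set_option backward.isDefEq.respectTransparency false

universe u

open CategoryTheory CategoryTheory.Limits MonoidalCategory CartesianMonoidalCategory AlgebraicGeometry
open scoped MonObj

noncomputable section

namespace AlbLib

variable {k : Type u} [Field k] {T G A : Over (Spec (CommRingCat.of k))} [GrpObj T] [GrpObj G] [GrpObj A]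
  [LocallyOfFiniteType G.hom] [QuasiCompact G.hom] (i : T ⟶ G) [IsMonHom i] [IsClosedImmersion i.left]
  (hT : Red.IsTorus T) (q : G ⟶ A) [IsMonHom q] [Surjective q.left] [Flat q.left] (hk : AlgGrp.IsKernel i q)
  [IsProper A.hom] [Smooth A.hom] [ConnectedSpace A.left]

include hT hk

/-- A semiabelian group is a commutative group variety. -/
theorem semi_variety : GeometricallyIntegral G.hom ∧ IsCommMonObj G := by
  haveI : LocallyOfFiniteType T.hom := by rw [← Over.w i]; infer_instance
  haveI : QuasiCompact T.hom := by rw [← Over.w i]; infer_instance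
  obtain ⟨hTs, hTc⟩ := smooth_connected_of_isTorus hT
  haveI := hTs; haveI := hTc
  haveI : Smooth G.hom := (Groth.Agent.S7982.result k T G A i q hk).2.1 inferInstance inferInstance
  haveI : ConnectedSpace G.left := (Groth.Agent.S7982.result k T G A i q hk).2.2 inferInstance inferInstance
  haveI := geometricallyIntegral_grp G
  haveI := geometricallyIntegral_grp A
  haveI : IsCommMonObj A := CubeConsLib.isCommMonObj_field
  haveI : Mono i := Over.mono_of_mono_left i
  refine ⟨inferInstance, ⟨?_⟩⟩
  let C : G ⊗ G ⟶ G := fst G G * snd G G * (fst G G)⁻¹ * (snd G G)⁻¹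
  have hC : C ≫ q = 1 := by
    simp only [C, MonObj.mul_comp, GrpObj.inv_comp]
    rw [mul_comm (fst G G ≫ q) (snd G G ≫ q), _root_.mul_assoc (snd G G ≫ q) (fst G G ≫ q), mul_inv_cancel,
      _root_.mul_one, mul_inv_cancel]
  obtain ⟨F, hF⟩ := AntiAffLib.exists_lift_kernel hk C hC
  have h1 : F = 1 := by
    refine eq_one_of_axes_torus hT F η[G] η[G] ?_ ?_
    · rw [← cancel_mono i, Category.assoc, hF, MonObj.one_comp]
      simp [C, MonObj.comp_mul, GrpObj.comp_inv, ← Hom.one_def]
    · rw [← cancel_mono i, Category.assoc, hF, MonObj.one_comp]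
      simp [C, MonObj.comp_mul, GrpObj.comp_inv, ← Hom.one_def]
  have h2 : C = 1 := by rw [← hF, h1, MonObj.one_comp]
  have h3 : fst G G * snd G G = snd G G * fst G G :=
    eq_mul_of_mul_inv_eq (eq_of_mul_inv_eq_one h2) 
  have hb : (β_ G G).hom = lift (snd G G) (fst G G) := CartesianMonoidalCategory.hom_ext _ _ (by simp) (by simp)
  have hm : μ[G] = fst G G * snd G G := by rw [Hom.mul_def, lift_fst_snd, Category.id_comp]
  rw [hb]
  show lift (snd G G) (fst G G) ≫ μ[G] = μ[G]
  conv_rhs => rw [hm, h3]
  rw [Hom.mul_def]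

end AlbLib
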