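import Groth.Agent.AlbLib.Albanese
import Groth.Agent.AlbLib.Semi
import Groth.Agent.AntiAffLib.Criteria
import Groth.Agent.AntiAffLib.AffineQuot
import Groth.Prelude

/-!
# Affine groups have no maps to abelian varieties
-/

set_option autoImplicit false
set_option linter.style.haveILetI false
set_option backward.isDefEq.respectTransparency false

universe u

open CategoryTheory CategoryTheory.Limits MonoidalCategory CartesianMonoidalCategory AlgebraicGeometry
open scoped MonObj

noncomputable section

namespace AlbLib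

variable {k : Type u} [Field k] {N B : Over (Spec (CommRingCat.of k))} [GrpObj N] [GrpObj B]

/-- A homomorphism from a smooth connected affine group to a proper group is trivial. -/
theorem eq_one_of_affine [Smooth N.hom] [ConnectedSpace N.left] [IsAffine N.left] [IsProper B.hom] (f : N ⟶ B)
    [IsMonHom f] : f = 1 := by
  haveI : QuasiCompact N.hom := quasiCompact_of_compactSpace _
  obtain ⟨C, _, p, hp, hCp, hCs, hCc, hpf, hps, hpt⟩ := exists_av_image f
  haveI := hp; haveI := hCp; haveI := hCs; haveI := hCc; haveI := hpf; haveI := hps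
  haveI : IsAffine C.left := AntiAffLib.isAffine_of_surjective_hom p
  haveI : IsReduced C.left := by
    haveI := geometricallyIntegral_grp C
    haveI : Subsingleton ↥(Spec (CommRingCat.of k)) := inferInstanceAs (Subsingleton (PrimeSpectrum k))
    haveI : IsIntegral C.left := GeometricallyIntegral.isIntegral_of_subsingleton C.hom
    infer_instance
  haveI := AntiAffLib.antiAff_of_universallyClosed C η[C]
  have h1 : 𝟙 C = 1 := AntiAffLib.comp_eq_one (𝟙 C) (Category.comp_id _)
  have h2 : p = 1 := by rw [← Category.comp_id p, h1, MonObj.comp_one]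
  have h3 := (hpt N (𝟙 N)).1 (by rw [Category.id_comp]; exact h2)
  rwa [Category.id_comp] at h3

/-- A torus over a field is affine. -/
theorem isAffine_of_isTorus {T : Over (Spec (CommRingCat.of k))} [GrpObj T] (hT : Red.IsTorus T) :
    IsAffine T.left := by
  obtain ⟨S', f, -, hfs, -, hloc⟩ := hT
  obtain ⟨s', -⟩ := hfs.surj (IsLocalRing.closedPoint k)
  obtain ⟨U, hU, r, ⟨e⟩⟩ := hloc s'
  let u : U.toScheme := ⟨s', hU⟩
  let L : Type u := U.toScheme.residueField u
  let g : Spec (CommRingCat.of L) ⟶ U.toScheme := U.toScheme.fromSpecResidueField u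
  obtain ⟨ψ, -, hψ⟩ := exists_split_at g (U.ι ≫ f) T _ e
  obtain ⟨w, -, -⟩ := Groth.Agent.TorusField.exists_DS_iso L (Fin r → ℤ)
  haveI : IsIso ψ.left := (Over.forget _).map_isIso ψ
  haveI : IsIso w.inv.left := (Over.forget _).map_isIso w.inv
  haveI : IsAffine (CoactBr.sp L (MonoidAlgebra L (Multiplicative (Fin r → ℤ)))).left :=
    inferInstanceAs (IsAffine (Spec (CommRingCat.of (MonoidAlgebra L (Multiplicative (Fin r → ℤ))))))
  haveI : IsAffine (pullback T.hom (g ≫ U.ι ≫ f)) := IsAffine.of_isIso (ψ.left ≫ w.inv.left)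
  haveI : Surjective (g ≫ U.ι ≫ f) := ⟨fun y => ⟨IsLocalRing.closedPoint L, @Subsingleton.elim (PrimeSpectrum k) _ _ _⟩⟩
  haveI : Flat (g ≫ U.ι ≫ f) := Groth.Agent.GrpField.flat_field _
  exact AlgSpLib.isAffine_of_descent (IsPullback.of_hasPullback T.hom (g ≫ U.ι ≫ f))

end AlbLib
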