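import Groth.Agent.S2500
import Groth.Agent.AVAmpleLib.ReducedSub
import Groth.Prelude

/-!
# Varieties over algebraically closed fields
-/

set_option autoImplicit false
set_option linter.style.haveILetI false
set_option backward.isDefEq.respectTransparency false

universe u

open CategoryTheory Limits MonoidalCategory CartesianMonoidalCategory AlgebraicGeometry TopologicalSpace

noncomputable section

namespace AlbLib

variable {k : Type u} [Field k] [IsAlgClosed k]

theorem geometricallyIntegral_of_isIntegral (X : Over (Spec (CommRingCat.of k))) [LocallyOfFiniteType X.hom]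
    [IsIntegral X.left] : GeometricallyIntegral X.hom := by
  haveI := Groth.Agent.S2500.result X.hom
  haveI := AVAmpleLib.gr_of_isReduced X.hom
  exact GeometricallyIntegral.of_geometricallyReduced_of_geometricallyIrreducible X.hom

/-- The product of two varieties is a variety. -/
theorem isIntegral_tensor (X Y : Over (Spec (CommRingCat.of k))) [LocallyOfFiniteType X.hom] [IsIntegral X.left]
    [LocallyOfFiniteType Y.hom] [IsIntegral Y.left] : IsIntegral (X ⊗ Y).left := by
  haveI := geometricallyIntegral_of_isIntegral X
  haveI : IsLocallyNoetherian Y.left := LocallyOfFiniteType.isLocallyNoetherian Y.hom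
  haveI : Flat X.hom := by
    haveI : Subsingleton ↥(Spec (CommRingCat.of k)) := inferInstanceAs (Subsingleton (PrimeSpectrum k))
    infer_instance
  exact inferInstanceAs (IsIntegral (pullback X.hom Y.hom))

/-- The rational point at a closed point. -/
def ratPt (X : Over (Spec (CommRingCat.of k))) [LocallyOfFiniteType X.hom] (x : X.left) (hx : IsClosed ({x} : Set X.left)) :
    𝟙_ (Over (Spec (CommRingCat.of k))) ⟶ X :=
  Over.homMk (pointOfClosedPoint X.hom x hx) (pointOfClosedPoint_comp X.hom x hx)

theorem ratPt_apply (X : Over (Spec (CommRingCat.of k))) [LocallyOfFiniteType X.hom] (x : X.left)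
    (hx : IsClosed ({x} : Set X.left)) (a : (𝟙_ (Over (Spec (CommRingCat.of k)))).left) :
    (ratPt X x hx).left a = x :=
  pointOfClosedPoint_apply X.hom x hx a

theorem isClosed_pt {X : Over (Spec (CommRingCat.of k))} [IsSeparated X.hom]
    (s : 𝟙_ (Over (Spec (CommRingCat.of k))) ⟶ X) (a : (𝟙_ (Over (Spec (CommRingCat.of k)))).left) :
    IsClosed ({s.left a} : Set X.left) := by
  haveI : IsClosedImmersion s.left := by
    haveI : Subsingleton (𝟙_ (Over (Spec (CommRingCat.of k)))).left := inferInstanceAs (Subsingleton (PrimeSpectrum k))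
    exact isClosedImmersion_of_comp_eq_id _ _ (Over.w s)
  have h := s.left.isClosedEmbedding.isClosed_range
  rwa [Set.range_eq_singleton (y := s.left a) (fun b => congrArg s.left (@Subsingleton.elim (PrimeSpectrum k) _ b a))] at h

/-- A nonempty open subset contains a rational point. -/
theorem exists_ratPt_mem (X : Over (Spec (CommRingCat.of k))) [LocallyOfFiniteType X.hom] (U : X.left.Opens)
    (hU : (U : Set X.left).Nonempty) :
    ∃ s : 𝟙_ (Over (Spec (CommRingCat.of k))) ⟶ X, s.left (IsLocalRing.closedPoint k) ∈ U := by
  haveI : JacobsonSpace X.left := LocallyOfFiniteType.jacobsonSpace X.hom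
  obtain ⟨x, hxU, hx⟩ := nonempty_inter_closedPoints hU U.2.isLocallyClosed
  exact ⟨ratPt X x hx, (ratPt_apply X x hx _).symm ▸ hxU⟩

/-- Morphisms from a variety agreeing on the rational points of a nonempty open subset agree. -/
theorem ext_pts {X A : Over (Spec (CommRingCat.of k))} [LocallyOfFiniteType X.hom] [IsIntegral X.left]
    [LocallyOfFiniteType A.hom] [IsSeparated A.hom] (a b : X ⟶ A) (U : X.left.Opens) (hU : (U : Set X.left).Nonempty)
    (h : ∀ s : 𝟙_ (Over (Spec (CommRingCat.of k))) ⟶ X, s.left (IsLocalRing.closedPoint k) ∈ U → s ≫ a = s ≫ b) :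
    a = b := by
  refine Over.OverMorphism.ext ?_
  haveI : LocallyOfFiniteType (a.left ≫ A.hom) := by rw [Over.w a]; infer_instance
  refine ext_of_apply_eq A.hom (U : Set X.left) U.2.isLocallyClosed (IsOpen.dense U.2 hU) (fun x hxU hx => ?_)
    (by rw [Over.w, Over.w])
  have hs := h (ratPt X x hx) ((ratPt_apply X x hx _).symm ▸ hxU)
  have hp := congrArg (fun w => w.left (IsLocalRing.closedPoint k)) hs
  simp only [Over.comp_left, Scheme.Hom.comp_apply] at hp
  rwa [ratPt_apply] at hp

end AlbLib
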