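import Groth.Agent.AlbLib.Prod
import Groth.Agent.AVAmpleLib.BcTate
import Groth.Agent.CubeConsLib.FieldHom
import Groth.Prelude

/-!
# Maps from products of varieties to abelian varieties
-/

set_option autoImplicit false
set_option linter.style.haveILetI false
set_option backward.isDefEq.respectTransparency false
set_option maxHeartbeats 1600000

universe u

open CategoryTheory CategoryTheory.Limits MonoidalCategory CartesianMonoidalCategory AlgebraicGeometry
open scoped MonObj

noncomputable section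

namespace AlbLib

variable {k : Type u} [Field k]

/-- A map on a product of varieties to a proper group which is trivial on both axes is trivial. -/
theorem eq_one_of_axes_field {X Y A : Over (Spec (CommRingCat.of k))} [LocallyOfFiniteType X.hom]
    [GeometricallyIntegral X.hom] [IsSeparated X.hom] [LocallyOfFiniteType Y.hom] [GeometricallyIntegral Y.hom]
    [IsSeparated Y.hom] [GrpObj A] [IsProper A.hom] (F : X ⊗ Y ⟶ A)
    (x₀ : 𝟙_ (Over (Spec (CommRingCat.of k))) ⟶ X) (y₀ : 𝟙_ (Over (Spec (CommRingCat.of k))) ⟶ Y)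
    (hY : lift (toUnit Y ≫ x₀) (𝟙 Y) ≫ F = 1) (hX : lift (𝟙 X) (toUnit X ≫ y₀) ≫ F = 1) : F = 1 := by
  let Ω := AlgebraicClosure k
  let B := AVAmpleLib.bcF (k := k) Ω
  letI : GrpObj (B.obj A) := Functor.grpObjObj
  haveI : IsProper (B.obj A).hom := inferInstanceAs (IsProper (pullback.snd A.hom _))
  haveI : LocallyOfFiniteType (B.obj X).hom := inferInstanceAs (LocallyOfFiniteType (pullback.snd X.hom _))
  haveI : LocallyOfFiniteType (B.obj Y).hom := inferInstanceAs (LocallyOfFiniteType (pullback.snd Y.hom _))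
  haveI : IsSeparated (B.obj X).hom := inferInstanceAs (IsSeparated (pullback.snd X.hom _))
  haveI : IsSeparated (B.obj Y).hom := inferInstanceAs (IsSeparated (pullback.snd Y.hom _))
  haveI : GeometricallyIntegral (B.obj X).hom := inferInstanceAs (GeometricallyIntegral (pullback.snd X.hom _))
  haveI : GeometricallyIntegral (B.obj Y).hom := inferInstanceAs (GeometricallyIntegral (pullback.snd Y.hom _))
  haveI : Flat (B.obj X).hom := Groth.Agent.GrpField.flat_field _
  haveI : Flat (B.obj Y).hom := Groth.Agent.GrpField.flat_field _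
  haveI : Subsingleton ↥(Spec (CommRingCat.of Ω)) := inferInstanceAs (Subsingleton (PrimeSpectrum Ω))
  haveI : IsIntegral (B.obj X).left := GeometricallyIntegral.isIntegral_of_subsingleton (B.obj X).hom
  haveI : IsIntegral (B.obj Y).left := GeometricallyIntegral.isIntegral_of_subsingleton (B.obj Y).hom
  refine AVAmpleLib.map_injective Ω ?_
  have h1 : ∀ Z : Over (Spec (CommRingCat.of k)), B.map (1 : Z ⟶ A) = 1 := fun Z =>
    map_one (Functor.homMonoidHom B : (Z ⟶ A) →* _)
  let bp : ∀ {Z : Over (Spec (CommRingCat.of k))}, (𝟙_ (Over (Spec (CommRingCat.of k))) ⟶ Z) →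
      (𝟙_ (Over (Spec (CommRingCat.of Ω))) ⟶ B.obj Z) := fun p => Functor.LaxMonoidal.ε B ≫ B.map p
  have hbp : ∀ {W Z : Over (Spec (CommRingCat.of k))} (p : 𝟙_ (Over (Spec (CommRingCat.of k))) ⟶ Z),
      toUnit (B.obj W) ≫ bp p = B.map (toUnit W ≫ p) := fun {W Z} p => by
    rw [Functor.map_comp, show B.map (toUnit W) = toUnit (B.obj W) ≫ Functor.LaxMonoidal.ε B from ?_, Category.assoc]
    rw [← cancel_mono (Functor.Monoidal.εIso B).inv]
    exact toUnit_unique _ _
  have hF : Functor.LaxMonoidal.μ B X Y ≫ B.map F = 1 := by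
    refine eq_one_of_axes (k := Ω) _ (bp x₀) (bp y₀) ?_ ?_
    · rw [hbp, ← B.map_id, ← Category.assoc, Functor.Monoidal.lift_μ, ← Functor.map_comp, hY, h1]
    · rw [hbp, ← B.map_id, ← Category.assoc, Functor.Monoidal.lift_μ, ← Functor.map_comp, hX, h1]
  rw [h1, ← cancel_epi (Functor.LaxMonoidal.μ B X Y), hF, MonObj.comp_one]

/-- A map on a product of varieties to an abelian variety splits. -/
theorem split {X Y A : Over (Spec (CommRingCat.of k))} [LocallyOfFiniteType X.hom]
    [GeometricallyIntegral X.hom] [IsSeparated X.hom] [LocallyOfFiniteType Y.hom] [GeometricallyIntegral Y.hom]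
    [IsSeparated Y.hom] [GrpObj A] [IsCommMonObj A] [IsProper A.hom] (f : X ⊗ Y ⟶ A)
    (x₀ : 𝟙_ (Over (Spec (CommRingCat.of k))) ⟶ X) (y₀ : 𝟙_ (Over (Spec (CommRingCat.of k))) ⟶ Y) :
    f = (toUnit (X ⊗ Y) ≫ lift x₀ y₀ ≫ f)⁻¹ * (snd X Y ≫ lift (toUnit Y ≫ x₀) (𝟙 Y) ≫ f) *
      (fst X Y ≫ lift (𝟙 X) (toUnit X ≫ y₀) ≫ f) := by
  rw [← mul_inv_eq_one]
  refine eq_one_of_axes_field _ x₀ y₀ ?_ ?_
  · simp only [MonObj.comp_mul, GrpObj.comp_inv, ← Category.assoc, comp_lift, lift_fst, lift_snd, Category.comp_id,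
      toUnit_unique (lift (toUnit Y ≫ x₀) (𝟙 Y) ≫ toUnit (X ⊗ Y)) (toUnit Y)]
    simp only [Category.assoc, Category.id_comp]
    rw [← Category.assoc x₀, toUnit_unique (x₀ ≫ toUnit X) (𝟙 _), Category.id_comp]
    simp [← comp_lift_assoc, mul_comm, mul_left_comm]
  · simp only [MonObj.comp_mul, GrpObj.comp_inv, ← Category.assoc, comp_lift, lift_fst, lift_snd, Category.comp_id,
      toUnit_unique (lift (𝟙 X) (toUnit X ≫ y₀) ≫ toUnit (X ⊗ Y)) (toUnit X)]
    simp only [Category.assoc, Category.id_comp]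
    rw [← Category.assoc y₀, toUnit_unique (y₀ ≫ toUnit Y) (𝟙 _), Category.id_comp]
    simp [← comp_lift_assoc, mul_comm, mul_left_comm]

end AlbLib
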