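import Groth.Agent.TorusFieldLib.Scheme
import Groth.Agent.AlbLib.Split
import Groth.Agent.S8709
import Groth.Agent.GrpSchLib.Cartier
import Groth.Prelude

set_option autoImplicit false
set_option linter.style.haveILetI false
set_option backward.isDefEq.respectTransparency false

universe v v' u u'

open CategoryTheory MonoidalCategory CartesianMonoidalCategory AlgebraicGeometry
open scoped MonObj

/-!
# Rigidity for maps to tori
-/

noncomputable section

namespace AlbLib

/-- Natural transformations of monoidal functors between cartesian categories give monoid homomorphisms. -/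
theorem isMonHom_app {C : Type u} [Category.{v} C] [MonoidalCategory C] {D : Type u'} [Category.{v'} D] [MonoidalCategory D]
    {F G : C ⥤ D} [F.Monoidal] [G.Monoidal] (α : F ⟶ G) [NatTrans.IsMonoidal α] (M : C) [MonObj M] :
    letI : MonObj (F.obj M) := Functor.monObjObj M
    letI : MonObj (G.obj M) := Functor.monObjObj M
    IsMonHom (α.app M) := by
  letI : MonObj (F.obj M) := Functor.monObjObj M
  letI : MonObj (G.obj M) := Functor.monObjObj M
  refine { one_hom := ?_, mul_hom := ?_ }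
  · rw [Functor.obj.η_def, Functor.obj.η_def, Category.assoc, α.naturality, NatTrans.IsMonoidal.unit_assoc]
  · rw [Functor.obj.μ_def, Functor.obj.μ_def, Category.assoc, α.naturality, NatTrans.IsMonoidal.tensor_assoc]

theorem exists_bc_comp {S S' S'' : Scheme.{u}} (g : S'' ⟶ S') (f : S' ⟶ S) (T : Over S) [GrpObj T] :
    ∃ e : Red.bc (g ≫ f) T ≅ Red.bc g (Red.bc f T), IsMonHom e.hom := by
  refine ⟨(Over.pullbackComp g f).app T, ?_⟩
  have h := isMonHom_app (Over.pullbackComp g f).hom T
  refine { one_hom := ?_, mul_hom := ?_ }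
  · have := h.one_hom
    simpa [Functor.obj.η_def] using this
  · have := h.mul_hom
    simpa [Functor.obj.μ_def] using this

/-- Characters separate maps to a split torus. -/
theorem exists_chars (L : Type u) [CommRing L] (r : ℕ) :
    ∃ χ : Fin r → (Red.DS (Spec (CommRingCat.of L)) (Fin r → ℤ) ⟶ Red.Gm (Spec (CommRingCat.of L))),
      (∀ i, IsMonHom (χ i)) ∧ ∀ (Z : Over (Spec (CommRingCat.of L))) (u : Z ⟶ Red.DS (Spec (CommRingCat.of L)) (Fin r → ℤ)),
        (∀ i, u ≫ χ i = 1) → u = 1 := by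
  obtain ⟨w, hw, hw'⟩ := Groth.Agent.TorusField.exists_DS_iso L (Fin r → ℤ)
  obtain ⟨z, hz, hz'⟩ := Groth.Agent.TorusField.exists_DS_iso L ℤ
  let e : Fin r → (Multiplicative ℤ →* Multiplicative (Fin r → ℤ)) := fun i =>
    AddMonoidHom.toMultiplicative (AddMonoidHom.single (fun _ : Fin r => ℤ) i)
  let φ : Fin r → (MonoidAlgebra L (Multiplicative ℤ) →ₐc[L] MonoidAlgebra L (Multiplicative (Fin r → ℤ))) :=
    fun i => MonoidAlgebra.mapDomainBialgHom L (e i)
  have hφ : ∀ i, IsMonHom (CoactBr.pt (φ i : MonoidAlgebra L (Multiplicative ℤ) →ₐ[L] MonoidAlgebra L (Multiplicative (Fin r → ℤ)))) :=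
    fun i => Groth.Agent.DiagRep.isMonHom_pt _ (φ i).counitAlgHom_comp (φ i).map_comp_comulAlgHom
  refine ⟨fun i => w.inv ≫ CoactBr.pt (φ i : MonoidAlgebra L (Multiplicative ℤ) →ₐ[L] MonoidAlgebra L (Multiplicative (Fin r → ℤ))) ≫ z.hom,
    fun i => by haveI := hφ i; infer_instance, fun Z u hu => ?_⟩
  have hv : ∀ i, (u ≫ w.inv) ≫ CoactBr.pt (φ i : MonoidAlgebra L (Multiplicative ℤ) →ₐ[L] MonoidAlgebra L (Multiplicative (Fin r → ℤ))) =
      (1 : Z ⟶ CoactBr.sp L (MonoidAlgebra L (Multiplicative (Fin r → ℤ)))) ≫ CoactBr.pt (φ i : MonoidAlgebra L (Multiplicative ℤ) →ₐ[L] MonoidAlgebra L (Multiplicative (Fin r → ℤ))) := by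
    intro i
    haveI := hφ i
    rw [← cancel_mono z.hom, MonObj.one_comp, MonObj.one_comp]
    simpa only [Category.assoc] using hu i
  suffices h : u ≫ w.inv = 1 by
    rw [← cancel_mono w.inv, h, MonObj.one_comp]
  generalize u ≫ w.inv = a at hv ⊢
  generalize (1 : Z ⟶ CoactBr.sp L (MonoidAlgebra L (Multiplicative (Fin r → ℤ)))) = b at hv ⊢
  haveI : IsAffine (CoactBr.sp L (MonoidAlgebra L (Multiplicative (Fin r → ℤ)))).left :=
    inferInstanceAs (IsAffine (Spec (CommRingCat.of (MonoidAlgebra L (Multiplicative (Fin r → ℤ))))))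
  refine Over.OverMorphism.ext (ext_of_isAffine ?_)
  let P : (Z ⟶ CoactBr.sp L (MonoidAlgebra L (Multiplicative (Fin r → ℤ)))) → (MonoidAlgebra L (Multiplicative (Fin r → ℤ)) →+* Γ(Z.left, ⊤)) :=
    fun c => ((Scheme.ΓSpecIso (CommRingCat.of (MonoidAlgebra L (Multiplicative (Fin r → ℤ))))).inv ≫ c.left.appTop).hom
  have key : P a = P b := by
    refine MonoidAlgebra.ringHom_ext (fun l => ?_) (fun m => ?_)
    · have hc : ∀ c : Z ⟶ CoactBr.sp L (MonoidAlgebra L (Multiplicative (Fin r → ℤ))),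
          P c (algebraMap L _ l) = Z.hom.appTop ((Scheme.ΓSpecIso (CommRingCat.of L)).inv l) := by
        intro c
        rw [← Over.w c, Scheme.Hom.comp_appTop]
        show _ = c.left.appTop ((Spec.map (CommRingCat.ofHom (algebraMap L _))).appTop ((Scheme.ΓSpecIso _).inv l))
        rw [← ConcreteCategory.comp_apply (Scheme.ΓSpecIso (CommRingCat.of L)).inv, ← Scheme.ΓSpecIso_inv_naturality]
        rfl
      simpa [MonoidAlgebra.coe_algebraMap] using (hc a).trans (hc b).symm
    · let A : Multiplicative (Fin r → ℤ) →* Γ(Z.left, ⊤) := (P a).toMonoidHom.comp (MonoidAlgebra.of L _)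
      let B : Multiplicative (Fin r → ℤ) →* Γ(Z.left, ⊤) := (P b).toMonoidHom.comp (MonoidAlgebra.of L _)
      suffices h : A = B from DFunLike.congr_fun h m
      have hi : ∀ i, A.comp (e i) = B.comp (e i) := by
        intro i
        refine MonoidHom.ext fun n => ?_
        have h1 := congrArg (fun c : Z ⟶ CoactBr.sp L (MonoidAlgebra L (Multiplicative ℤ)) => ((Scheme.ΓSpecIso (CommRingCat.of (MonoidAlgebra L (Multiplicative ℤ)))).inv ≫ (CommaMorphism.left c).appTop) (MonoidAlgebra.of L _ n)) (hv i)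
        simp only [Over.comp_left, Scheme.Hom.comp_appTop, CoactBr.pt_left] at h1
        erw [← Scheme.ΓSpecIso_inv_naturality_assoc, ← Scheme.ΓSpecIso_inv_naturality_assoc] at h1
        simp only [MonoidHom.comp_apply, A, B, P]
        have he : (φ i : MonoidAlgebra L (Multiplicative ℤ) →ₐ[L] MonoidAlgebra L (Multiplicative (Fin r → ℤ))) (MonoidAlgebra.of L _ n) =
            MonoidAlgebra.of L _ (e i n) := by simp [φ]
        rw [← he]
        exact h1
      refine MonoidHom.ext fun x => ?_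
      have hx : x = ∏ i, e i (Multiplicative.ofAdd (Multiplicative.toAdd x i)) := by
        apply Multiplicative.toAdd.injective
        simp [e, toAdd_prod, Finset.univ_sum_single]
      rw [hx, map_prod, map_prod]
      exact Finset.prod_congr rfl fun i _ => DFunLike.congr_fun (hi i) _
  exact ((cancel_epi (Scheme.ΓSpecIso _).inv).1 (CommRingCat.hom_ext key))

set_option backward.isDefEq.respectTransparency true in
theorem exists_DS_bc {S' S'' : Scheme.{u}} (g : S'' ⟶ S') (M : Type) [AddCommGroup M] :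
    ∃ e : Red.DS S'' M ≅ Red.bc g (Red.DS S' M), IsMonHom e.hom := by
  have h := exists_bc_comp g (Limits.IsTerminal.from specULiftZIsTerminal S') (Red.diag (ULift.{u} ℤ) M)
  rwa [show g ≫ Limits.IsTerminal.from specULiftZIsTerminal S' =
    Limits.IsTerminal.from specULiftZIsTerminal S'' from specULiftZIsTerminal.hom_ext _ _] at h

set_option backward.isDefEq.respectTransparency true in
theorem exists_split_at {S S' S'' : Scheme.{u}} (g : S'' ⟶ S') (f : S' ⟶ S) (T : Over S) [GrpObj T] (M : Type)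
    [AddCommGroup M] (e : Grp.mk (Red.bc f T) ≅ Grp.mk (Red.DS S' M)) :
    ∃ ψ : Red.bc (g ≫ f) T ⟶ Red.DS S'' M, IsMonHom ψ ∧ IsIso ψ := by
  obtain ⟨e2, he2⟩ := exists_DS_bc g M
  obtain ⟨θ, hθ⟩ := exists_bc_comp g f T
  let j : Red.bc g (Red.bc f T) ≅ Red.bc g (Red.DS S' M) :=
    (Over.pullback g).mapIso ((Grp.forget _).mapIso e)
  haveI : IsMonHom e.hom.hom.hom := e.hom.hom.isMonHom_hom
  haveI : IsMonHom j.hom :=
    @Functor.map.instIsMonHom _ _ _ _ _ _ (Over.pullback g) _ _ _ _ _ e.hom.hom.hom _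
  haveI := hθ
  haveI := he2
  exact ⟨(θ ≪≫ j ≪≫ e2.symm).hom, inferInstanceAs (IsMonHom (θ.hom ≫ j.hom ≫ e2.inv)), inferInstance⟩

/-- Maps from products of varieties to a torus which are trivial on both axes are trivial. -/
theorem eq_one_of_axes_torus {k : Type u} [Field k] {X Y T : Over (Spec (CommRingCat.of k))}
    [LocallyOfFiniteType X.hom] [QuasiCompact X.hom] [GeometricallyIntegral X.hom]
    [LocallyOfFiniteType Y.hom] [QuasiCompact Y.hom] [GeometricallyIntegral Y.hom]
    [GrpObj T] (hT : Red.IsTorus T) (F : X ⊗ Y ⟶ T)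
    (x₀ : 𝟙_ (Over (Spec (CommRingCat.of k))) ⟶ X) (y₀ : 𝟙_ (Over (Spec (CommRingCat.of k))) ⟶ Y)
    (hY : lift (toUnit Y ≫ x₀) (𝟙 Y) ≫ F = 1) (hX : lift (𝟙 X) (toUnit X ≫ y₀) ≫ F = 1) : F = 1 := by
  obtain ⟨S', f, -, hfs, -, hloc⟩ := hT
  obtain ⟨s', -⟩ := hfs.surj (IsLocalRing.closedPoint k)
  obtain ⟨U, hU, r, ⟨e⟩⟩ := hloc s'
  let u : U.toScheme := ⟨s', hU⟩
  let L : Type u := U.toScheme.residueField u
  let g : Spec (CommRingCat.of L) ⟶ U.toScheme := U.toScheme.fromSpecResidueField u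
  letI : Algebra k L := (Spec.preimage (g ≫ U.ι ≫ f)).hom.toAlgebra
  have hh : Spec.map (CommRingCat.ofHom (algebraMap k L)) = g ≫ U.ι ≫ f := Spec.map_preimage _
  obtain ⟨ψ, hψ, hψm⟩ : ∃ ψ : Red.bc (Spec.map (CommRingCat.ofHom (algebraMap k L))) T ⟶
      Red.DS (Spec (CommRingCat.of L)) (Fin r → ℤ), IsMonHom ψ ∧ Mono ψ := by
    rw [hh]
    obtain ⟨ψ, h1, h2⟩ := exists_split_at g (U.ι ≫ f) T _ e
    exact ⟨ψ, h1, inferInstance⟩
  obtain ⟨χ, hχ, hχe⟩ := exists_chars L r
  let B := AVAmpleLib.bcF (k := k) L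
  letI : GrpObj (B.obj T) := Functor.grpObjObj
  haveI : LocallyOfFiniteType (B.obj X).hom := inferInstanceAs (LocallyOfFiniteType (Limits.pullback.snd X.hom _))
  haveI : LocallyOfFiniteType (B.obj Y).hom := inferInstanceAs (LocallyOfFiniteType (Limits.pullback.snd Y.hom _))
  haveI : QuasiCompact (B.obj X).hom := inferInstanceAs (QuasiCompact (Limits.pullback.snd X.hom _))
  haveI : QuasiCompact (B.obj Y).hom := inferInstanceAs (QuasiCompact (Limits.pullback.snd Y.hom _))
  haveI : GeometricallyIntegral (B.obj X).hom := inferInstanceAs (GeometricallyIntegral (Limits.pullback.snd X.hom _))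
  haveI : GeometricallyIntegral (B.obj Y).hom := inferInstanceAs (GeometricallyIntegral (Limits.pullback.snd Y.hom _))
  haveI : IsMonHom (M := B.obj T) ψ := hψ
  haveI : GeometricallyConnected (B.obj X).hom := H0Lib.geometricallyConnected_of_integral _
  haveI : GeometricallyConnected (B.obj Y).hom := H0Lib.geometricallyConnected_of_integral _
  refine AVAmpleLib.map_injective L ?_
  have h1 : ∀ Z : Over (Spec (CommRingCat.of k)), B.map (1 : Z ⟶ T) = 1 := fun Z =>
    map_one (Functor.homMonoidHom B : (Z ⟶ T) →* _)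
  let bp : ∀ {Z : Over (Spec (CommRingCat.of k))}, (𝟙_ (Over (Spec (CommRingCat.of k))) ⟶ Z) →
      (𝟙_ (Over (Spec (CommRingCat.of L))) ⟶ B.obj Z) := fun p => Functor.LaxMonoidal.ε B ≫ B.map p
  have hbp : ∀ {W Z : Over (Spec (CommRingCat.of k))} (p : 𝟙_ (Over (Spec (CommRingCat.of k))) ⟶ Z),
      toUnit (B.obj W) ≫ bp p = B.map (toUnit W ≫ p) := fun {W Z} p => by
    rw [Functor.map_comp, show B.map (toUnit W) = toUnit (B.obj W) ≫ Functor.LaxMonoidal.ε B from ?_, Category.assoc]
    rw [← cancel_mono (Functor.Monoidal.εIso B).inv]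
    exact toUnit_unique _ _
  have hF : ∀ i, (Functor.LaxMonoidal.μ B X Y ≫ B.map F ≫ ψ) ≫ χ i = 1 := by
    intro i
    haveI := hχ i
    refine Groth.Agent.S8709.result L _ _ (bp x₀) (bp y₀) _ ?_ ?_
    · rw [hbp, ← B.map_id]
      simp only [← Category.assoc]
      rw [Functor.Monoidal.lift_μ, ← Functor.map_comp, hX, h1]
      simp only [MonObj.one_comp]
    · rw [hbp, ← B.map_id]
      simp only [← Category.assoc]
      rw [Functor.Monoidal.lift_μ, ← Functor.map_comp, hY, h1]
      simp only [MonObj.one_comp]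
  have h2 : B.map F ≫ ψ = 1 := by
    rw [← cancel_epi (Functor.LaxMonoidal.μ B X Y), hχe _ _ hF, MonObj.comp_one]
  rw [h1, ← cancel_mono ψ, h2, MonObj.one_comp]

/-- The coordinate ring of a split torus over a field is a domain. -/
theorem isIntegral_DS (L : Type u) [Field L] (r : ℕ) :
    IsIntegral (Red.DS (Spec (CommRingCat.of L)) (Fin r → ℤ)).left := by
  obtain ⟨w, -, -⟩ := Groth.Agent.TorusField.exists_DS_iso L (Fin r → ℤ)
  haveI : IsIntegral (CoactBr.sp L (MonoidAlgebra L (Multiplicative (Fin r → ℤ)))).left :=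
    inferInstanceAs (IsIntegral (Spec (CommRingCat.of (MonoidAlgebra L (Multiplicative (Fin r → ℤ))))))
  haveI : IsIso w.hom.left := (Over.forget _).map_isIso w.hom
  haveI : Nonempty (Red.DS (Spec (CommRingCat.of L)) (Fin r → ℤ)).left :=
    Nonempty.map w.hom.left (inferInstance : Nonempty _)
  exact isIntegral_of_isOpenImmersion (inv w.hom.left)

/-- A torus over a field is smooth and connected. -/
theorem smooth_connected_of_isTorus {k : Type u} [Field k] {T : Over (Spec (CommRingCat.of k))} [GrpObj T]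
    [LocallyOfFiniteType T.hom] (hT : Red.IsTorus T) : Smooth T.hom ∧ ConnectedSpace T.left := by
  obtain ⟨S', f, -, hfs, -, hloc⟩ := hT
  obtain ⟨s', -⟩ := hfs.surj (IsLocalRing.closedPoint k)
  obtain ⟨U, hU, r, ⟨e⟩⟩ := hloc s'
  let u : U.toScheme := ⟨s', hU⟩
  let Ω : Type u := AlgebraicClosure (U.toScheme.residueField u)
  let g : Spec (CommRingCat.of Ω) ⟶ U.toScheme :=
    Spec.map (CommRingCat.ofHom (algebraMap (U.toScheme.residueField u) Ω)) ≫ U.toScheme.fromSpecResidueField u
  obtain ⟨ψ, -, hψ⟩ := exists_split_at g (U.ι ≫ f) T _ e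
  let h : Spec (CommRingCat.of Ω) ⟶ Spec (CommRingCat.of k) := g ≫ U.ι ≫ f
  haveI : IsIso ψ.left := (Over.forget _).map_isIso ψ
  haveI := isIntegral_DS Ω r
  letI : GrpObj (Over.mk (Limits.pullback.snd T.hom h)) := Red.grpObj_bc h T
  haveI : Nonempty (Red.bc h T).left := Nonempty.map (inv ψ.left) (inferInstance : Nonempty _)
  haveI : IsIntegral (Red.bc h T).left := isIntegral_of_isOpenImmersion ψ.left
  haveI : IsIntegral (Limits.pullback T.hom h) := ‹IsIntegral (Red.bc h T).left›
  haveI : IsReduced (Over.mk (Limits.pullback.snd T.hom h)).left := inferInstanceAs (IsReduced (Limits.pullback T.hom h))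
  haveI : LocallyOfFiniteType (Over.mk (Limits.pullback.snd T.hom h)).hom :=
    inferInstanceAs (LocallyOfFiniteType (Limits.pullback.snd T.hom h))
  have hs : Smooth (Limits.pullback.snd T.hom h) :=
    Groth.Agent.GrpSchLib.smooth_of_isAlgClosed_of_isReduced (Over.mk (Limits.pullback.snd T.hom h))
  haveI : Surjective h := ⟨fun y => ⟨IsLocalRing.closedPoint Ω, @Subsingleton.elim (PrimeSpectrum k) _ _ _⟩⟩
  haveI : Flat h := Groth.Agent.GrpField.flat_field h
  haveI : QuasiCompact h := quasiCompact_of_compactSpace h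
  refine ⟨MorphismProperty.of_pullback_snd_of_descendsAlong (P := @Smooth) (Q := @Surjective ⊓ @Flat ⊓ @QuasiCompact)
    (g := h) ⟨⟨inferInstance, inferInstance⟩, inferInstance⟩ hs, ?_⟩
  exact (Limits.pullback.fst T.hom h).surjective.connectedSpace (Limits.pullback.fst T.hom h).continuous

end AlbLib
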