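import Groth.Agent.S2345
import Groth.Agent.CurveFFLib.TwistFF
import Groth.Agent.WeilLib.Dim
import Groth.Prelude

/-!
# Normal complete models of affine curves
-/

set_option autoImplicit false
set_option linter.style.haveILetI false
set_option backward.isDefEq.respectTransparency false

universe u

open CategoryTheory Limits AlgebraicGeometry TopologicalSpace

noncomputable section

namespace AlbLib

attribute [local instance] Curv2.stalkAlgebra

variable (k : Type u) [Field k]

/-- A one-dimensional affine domain is birational to a normal complete curve. -/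
theorem exists_complete_model (D : Type u) [CommRing D] [IsDomain D] [Algebra k D] [Algebra.FiniteType k D]
    (hD : ringKrullDim D = 1) :
    ∃ (Cb : Over (Spec (CommRingCat.of k))) (_ : IsIntegral Cb.left) (_ : IsProper Cb.hom)
      (V : Cb.left.Opens) (φ : V.toScheme ⟶ Spec (CommRingCat.of D)),
      genericPoint Cb.left ∈ V ∧ IsDominant φ ∧
      φ ≫ Spec.map (CommRingCat.ofHom (algebraMap k D)) = V.ι ≫ Cb.hom ∧
      ∀ x : Cb.left, IsClosed ({x} : Set Cb.left) → IsDiscreteValuationRing (Cb.left.presheaf.stalk x) := by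
  let F := FractionRing D
  obtain ⟨s, hs, hs'⟩ := WeilLib.dim_eq_trdeg k D F
  have hs1 : s = 1 := by
    rw [hD] at hs
    exact_mod_cast hs.symm
  have htr : Algebra.trdeg k F = 1 := by rw [hs', hs1, Nat.cast_one]
  haveI : Algebra.EssFiniteType k D := inferInstance
  haveI : Algebra.EssFiniteType D F := Algebra.EssFiniteType.of_isLocalization F (nonZeroDivisors D)
  haveI : Algebra.EssFiniteType k F := Algebra.EssFiniteType.comp k D F
  obtain ⟨X, hXo, hXi, hprop, hnorm, hdim, e, he⟩ :=
    Groth.Agent.S2345.result k F (IntermediateField.fg_top k F) htr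
  letI := hXo; haveI := hXi; haveI := hprop
  let sX : X ⟶ Spec (CommRingCat.of k) := X ↘ Spec (CommRingCat.of k)
  let sD : Spec (CommRingCat.of D) ⟶ Spec (CommRingCat.of k) := Spec.map (CommRingCat.ofHom (algebraMap k D))
  haveI : LocallyOfFiniteType sD := by
    rw [HasRingHomProperty.Spec_iff (P := @LocallyOfFiniteType)]
    exact RingHom.finiteType_algebraMap.mpr inferInstance
  let ψ : D →+* X.presheaf.stalk (genericPoint X) := e.symm.toRingHom.comp (algebraMap D F)
  have hψ : ψ.comp (algebraMap k D) = Curv2.stalkMap k X (genericPoint X) := by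
    ext c
    show e.symm (algebraMap D F (algebraMap k D c)) = _
    rw [← IsScalarTower.algebraMap_apply, RingEquiv.symm_apply_eq]
    exact (he c).symm
  have hψi : Function.Injective ψ := e.symm.injective.comp (IsFractionRing.injective D F)
  let φ₀ : Spec (X.presheaf.stalk (genericPoint X)) ⟶ Spec (CommRingCat.of D) := Spec.map (CommRingCat.ofHom ψ)
  haveI : IsLocallyNoetherian X := LocallyOfFiniteType.isLocallyNoetherian sX
  obtain ⟨V, hηV, φ, hfac, hover⟩ := spread_out_of_isGermInjective' sX sD (x := genericPoint X) φ₀ (by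
    rw [CurveFFLib.fromSpecStalk_comp_hom, ← Spec.map_comp, ← hψ]
    rfl)
  refine ⟨Over.mk sX, hXi, hprop, V, φ, hηV, ⟨?_⟩, hover, fun x hx => ?_⟩
  · intro p
    have hgen : φ₀ (IsLocalRing.closedPoint (X.presheaf.stalk (genericPoint X))) = genericPoint (Spec (CommRingCat.of D)) := by
      rw [genericPoint_eq_bot_of_affine]
      refine PrimeSpectrum.ext ?_
      show (IsLocalRing.maximalIdeal (X.presheaf.stalk (genericPoint X))).comap ψ = ⊥
      have hf : IsField (X.presheaf.stalk (genericPoint X)) := Field.toIsField X.functionField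
      rw [IsLocalRing.isField_iff_maximalIdeal_eq.1 hf, ← RingHom.ker_eq_comap_bot]
      exact (RingHom.injective_iff_ker_eq_bot ψ).1 hψi
    refine closure_mono (show {genericPoint (Spec (CommRingCat.of D))} ⊆ Set.range φ from ?_) ?_
    · rw [Set.singleton_subset_iff, ← hgen, hfac, Scheme.Hom.comp_apply]
      exact ⟨_, rfl⟩
    · rw [(genericPoint_spec _).def]; trivial
  · haveI := (hnorm x).1
    haveI := (hnorm x).2
    have hd := hdim x hx
    have hnf : ¬ IsField (X.presheaf.stalk x) := fun hf => by
      have h0 := ringKrullDim_eq_zero_of_isField hf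
      rw [hd] at h0
      exact one_ne_zero h0
    haveI : Ring.KrullDimLE 1 (X.presheaf.stalk x) := Ring.krullDimLE_iff.2 (by rw [hd]; rfl)
    have hu : IsIntegrallyClosed (X.presheaf.stalk x) ∧
        ∃! P : Ideal (X.presheaf.stalk x), P ≠ ⊥ ∧ P.IsPrime :=
      ⟨inferInstance, IsLocalRing.maximalIdeal _,
        ⟨fun h => hnf (IsLocalRing.isField_iff_maximalIdeal_eq.2 h), inferInstance⟩,
        fun P hP => IsLocalRing.eq_maximalIdeal (hP.2.isMaximal_of_ne_bot hP.1)⟩
    exact ((IsDiscreteValuationRing.TFAE _ hnf).out 0 3).2 hu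

end AlbLib
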