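import Groth.Agent.AlbLib.Slice
import Groth.Agent.AlbLib.Curve
import Groth.Agent.AVAmpleLib.CurveThrough
import Groth.Agent.AVAmpleLib.ProdRigid
import Groth.Agent.GrpFieldLib.Comps
import Groth.Agent.DepthLib.NoEmbLoci
import Groth.Prelude

/-!
# Maps from products of varieties to proper groups, over algebraically closed fields
-/

set_option autoImplicit false
set_option linter.style.haveILetI false
set_option backward.isDefEq.respectTransparency false
set_option maxHeartbeats 1600000

universe u

open CategoryTheory CategoryTheory.Limits MonoidalCategory CartesianMonoidalCategory AlgebraicGeometry CoactBr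
open scoped MonObj TensorProduct

noncomputable section

namespace AlbLib

variable {k : Type u} [Field k] [IsAlgClosed k]

theorem lft_sp (D : Type u) [CommRing D] [Algebra k D] [Algebra.FiniteType k D] : LocallyOfFiniteType (sp k D).hom := by
  show LocallyOfFiniteType (Spec.map (CommRingCat.ofHom (algebraMap k D)))
  rw [HasRingHomProperty.Spec_iff (P := @LocallyOfFiniteType)]
  exact RingHom.finiteType_algebraMap.mpr inferInstance

theorem isSeparated_sp (D : Type u) [CommRing D] [Algebra k D] : IsSeparated (sp k D).hom :=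
  inferInstanceAs (IsSeparated (Spec.map _))

/-- The rational points of `X` are determined by their images. -/
theorem ratPt_ext {X : Over (Spec (CommRingCat.of k))} [LocallyOfFiniteType X.hom]
    (a b : 𝟙_ (Over (Spec (CommRingCat.of k))) ⟶ X)
    (h : a.left (IsLocalRing.closedPoint k) = b.left (IsLocalRing.closedPoint k)) : a = b :=
  Over.OverMorphism.ext (ext_of_apply_closedPoint_eq X.hom (Over.w a) (Over.w b) h)

/-- A rational point of a variety in the image of a dominant morphism. -/
theorem exists_open_lift {V D : Over (Spec (CommRingCat.of k))} [LocallyOfFiniteType V.hom] [QuasiCompact V.hom]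
    [LocallyOfFiniteType D.hom] [IsSeparated D.hom] [IsIntegral D.left] [IrreducibleSpace V.left]
    (φ : V ⟶ D) [IsDominant φ.left] :
    ∃ W : D.left.Opens, (W : Set D.left).Nonempty ∧ ∀ c : 𝟙_ (Over (Spec (CommRingCat.of k))) ⟶ D,
      c.left (IsLocalRing.closedPoint k) ∈ W → ∃ v, v ≫ φ = c := by
  haveI : LocallyOfFiniteType (φ.left ≫ D.hom) := by rw [Over.w φ]; infer_instance
  haveI := locallyOfFiniteType_of_comp φ.left D.hom
  haveI : IsLocallyNoetherian D.left := LocallyOfFiniteType.isLocallyNoetherian D.hom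
  haveI : LocallyOfFinitePresentation φ.left := LocallyOfFinitePresentation.iff_locallyOfFiniteType.2 inferInstance
  haveI : CompactSpace V.left := QuasiCompact.compactSpace_of_compactSpace V.hom
  haveI : QuasiCompact (φ.left ≫ D.hom) := by rw [Over.w φ]; infer_instance
  haveI : QuasiCompact φ.left := QuasiCompact.of_comp φ.left D.hom
  haveI : QuasiSeparatedSpace D.left := quasiSeparatedSpace_of_quasiSeparated D.hom
  have hgen : genericPoint D.left ∈ φ.left '' Set.univ := by
    refine ⟨genericPoint V.left, trivial, ?_⟩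
    refine (IsGenericPoint.eq ?_ (genericPoint_spec D.left))
    have h := (genericPoint_spec V.left).image (Scheme.Hom.continuous φ.left)
    rwa [Set.image_univ, φ.left.denseRange.closure_range] at h
  obtain ⟨U, hUg, hU⟩ := DepthLib.exists_opens_subset_of_genericPoint_mem
    (φ.left.isLocallyConstructible_image Topology.IsConstructible.univ.isLocallyConstructible) hgen
  rw [Set.image_univ] at hU
  refine ⟨U, ⟨_, hUg⟩, fun c hc => ?_⟩
  obtain ⟨w, hw⟩ := hU hc
  haveI : JacobsonSpace V.left := LocallyOfFiniteType.jacobsonSpace V.hom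
  haveI : JacobsonSpace D.left := LocallyOfFiniteType.jacobsonSpace D.hom
  have hcl : IsClosed (φ.left ⁻¹' {c.left (IsLocalRing.closedPoint k)}) :=
    (isClosed_pt c _).preimage (Scheme.Hom.continuous _)
  obtain ⟨v, hv, hvc⟩ := nonempty_inter_closedPoints (Z := φ.left ⁻¹' {c.left (IsLocalRing.closedPoint k)}) ⟨w, hw⟩ hcl.isLocallyClosed
  refine ⟨ratPt V v hvc, ratPt_ext _ _ ?_⟩
  rw [Over.comp_left, Scheme.Hom.comp_apply, ratPt_apply]
  exact hv

/-- Along a curve a pointed family of maps to a proper group is constant. -/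
theorem curve_const {X A : Over (Spec (CommRingCat.of k))} [LocallyOfFiniteType X.hom] [IsIntegral X.left]
    [IsSeparated X.hom]
    [GrpObj A] [IsProper A.hom] (D : Type u) [CommRing D] [IsDomain D] [Algebra k D] [Algebra.FiniteType k D]
    (hD : ringKrullDim D = 1) (g : X ⊗ sp k D ⟶ A) (x₀ : 𝟙_ (Over (Spec (CommRingCat.of k))) ⟶ X)
    (h0 : ∀ c : 𝟙_ (Over (Spec (CommRingCat.of k))) ⟶ sp k D, lift x₀ c ≫ g = 1)
    (x : 𝟙_ (Over (Spec (CommRingCat.of k))) ⟶ X) (c c' : 𝟙_ (Over (Spec (CommRingCat.of k))) ⟶ sp k D) :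
    lift x c ≫ g = lift x c' ≫ g := by
  obtain ⟨Cb, hCi, hCp, V, φ, hηV, hφd, hφ, hdvr⟩ := exists_complete_model k D hD
  haveI := hCi; haveI := hCp; haveI := hφd
  let Vo : Over (Spec (CommRingCat.of k)) := Over.mk (V.ι ≫ Cb.hom)
  let j : Vo ⟶ Cb := Over.homMk V.ι rfl
  let φ' : Vo ⟶ sp k D := Over.homMk φ hφ
  haveI : IsOpenImmersion j.left := inferInstanceAs (IsOpenImmersion V.ι)
  haveI : IsDominant φ'.left := hφd
  haveI : IsSeparated A.hom := inferInstance
  -- an affine chart of the base
  obtain ⟨U₀, hU₀, hxU, -⟩ := exists_isAffineOpen_mem_and_subset (X := X.left)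
    (x := genericPoint X.left) (U := ⊤) trivial
  let R : Type u := Γ(X.left, U₀)
  haveI : Nonempty U₀.toScheme := ⟨⟨_, hxU⟩⟩
  haveI : IsDomain R := inferInstanceAs (IsDomain Γ(X.left, U₀))
  obtain ⟨cR, hcR⟩ := Spec.map_surjective (hU₀.fromSpec ≫ X.hom)
  letI : Algebra k R := cR.hom.toAlgebra
  let fs : Spec (CommRingCat.of R) ⟶ X.left := hU₀.fromSpec
  let jR : sp k R ⟶ X := Over.homMk fs (by
    show hU₀.fromSpec ≫ X.hom = Spec.map (CommRingCat.ofHom cR.hom)
    rw [← hcR]
    rfl)
  haveI : IsOpenImmersion fs := inferInstanceAs (IsOpenImmersion hU₀.fromSpec)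
  haveI : IsOpenImmersion jR.left := inferInstanceAs (IsOpenImmersion fs)
  haveI : Algebra.FiniteType k R := by
    haveI : LocallyOfFiniteType (sp k R).hom := by rw [← Over.w jR]; infer_instance
    have h' : LocallyOfFiniteType (Spec.map (CommRingCat.ofHom (algebraMap k R))) := this
    rw [HasRingHomProperty.Spec_iff (P := @LocallyOfFiniteType)] at h'
    exact RingHom.finiteType_algebraMap.mp h'
  obtain ⟨r, hr, h', hh'⟩ := exists_slice_extension R Cb hdvr j
    (by rw [show Set.range j.left = (V : Set Cb.left) from Scheme.Opens.range_ι V]; exact hηV)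
    A ((jR ⊗ₘ φ') ≫ g)
  haveI : IsDomain (Localization.Away r) :=
    IsLocalization.isDomain_localization (powers_le_nonZeroDivisors_of_noZeroDivisors hr)
  haveI : Algebra.FiniteType k (Localization.Away r) := Algebra.FiniteType.trans (S := R) inferInstance inferInstance
  let ρ : sp k (Localization.Away r) ⟶ sp k R := pt (IsScalarTower.toAlgHom k R (Localization.Away r))
  haveI : IsOpenImmersion ρ.left := by
    show IsOpenImmersion (Spec.map (CommRingCat.ofHom (algebraMap R (Localization.Away r))))
    exact IsOpenImmersion.of_isLocalization r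
  haveI := lft_sp (k := k) (Localization.Away r)
  haveI : IsIntegral (sp k (Localization.Away r)).left := inferInstanceAs (IsIntegral (Spec (CommRingCat.of (Localization.Away r))))
  obtain ⟨u₁, -⟩ := exists_ratPt_mem (sp k (Localization.Away r)) ⊤ ⟨genericPoint (sp k (Localization.Away r)).left, trivial⟩
  -- rigidity
  let G : sp k (Localization.Away r) ⊗ Cb ⟶ A := h' * (lift (toUnit _ ≫ u₁) (snd _ _) ≫ h')⁻¹
  have hG : ∀ u v, lift u v ≫ G = (lift u v ≫ h') * (lift u₁ v ≫ h')⁻¹ := fun u v => by
    simp only [G, MonObj.comp_mul, GrpObj.comp_inv, ← Category.assoc, comp_lift, lift_snd]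
    congr 3
    refine CartesianMonoidalCategory.hom_ext _ _ ?_ (by simp)
    simp only [lift_fst]
    rw [show lift u v ≫ toUnit (sp k (Localization.Away r) ⊗ Cb) = 𝟙 _ from toUnit_unique _ _, Category.id_comp]
  haveI : GeometricallyIntegral Cb.hom := geometricallyIntegral_of_isIntegral Cb
  haveI : Flat Cb.hom := Groth.Agent.GrpField.flat_field _
  haveI : GeometricallyConnected Cb.hom := H0Lib.geometricallyConnected_of_integral Cb.hom
  haveI : LocallyOfFinitePresentation Cb.hom := LocallyOfFinitePresentation.iff_locallyOfFiniteType.2 inferInstance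
  haveI : Nonempty ↥(𝟙_ (Over (Spec (CommRingCat.of k)))).left := inferInstanceAs (Nonempty (PrimeSpectrum k))
  obtain ⟨gam, hgam, -⟩ := AVAmpleLib.existsUnique_snd_factor (X := Cb) (Y := sp k (Localization.Away r)) (lift (snd _ _) (fst _ _) ≫ G)
    u₁ 1 (by
      show (Cb ◁ u₁) ≫ _ = _
      rw [← Category.assoc, comp_lift, whiskerLeft_snd, whiskerLeft_fst,
        show snd Cb (𝟙_ _) = toUnit _ from toUnit_unique _ _]
      simp only [G, MonObj.comp_mul, GrpObj.comp_inv, ← Category.assoc, comp_lift, lift_snd]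
      rw [toUnit_unique (lift (toUnit _ ≫ u₁) (fst Cb (𝟙_ _)) ≫ toUnit _) (toUnit _), mul_inv_cancel,
        MonObj.comp_one])
  have hgam' : ∀ (u : 𝟙_ (Over (Spec (CommRingCat.of k))) ⟶ sp k (Localization.Away r)) (v : 𝟙_ (Over (Spec (CommRingCat.of k))) ⟶ Cb), lift u v ≫ G = u ≫ gam := fun u v => by
    have := congrArg (lift v u ≫ ·) hgam
    simpa only [← Category.assoc, comp_lift, lift_fst, lift_snd] using this
  have hval : ∀ u (v : 𝟙_ (Over (Spec (CommRingCat.of k))) ⟶ Vo),
      lift u (v ≫ j) ≫ h' = lift (u ≫ ρ ≫ jR) (v ≫ φ') ≫ g := fun u v => by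
    have := congrArg (lift u v ≫ ·) hh'
    rw [← Category.assoc, lift_whiskerLeft, ← Category.assoc (lift u v), lift_whiskerRight, ← Category.assoc, lift_map,
      Category.assoc u] at this
    exact this
  haveI : IsOpenImmersion (ρ ≫ jR).left := by rw [Over.comp_left]; infer_instance
  let U₁ : X.left.Opens := (ρ ≫ jR).left.opensRange
  have key : ∀ v v' : 𝟙_ (Over (Spec (CommRingCat.of k))) ⟶ Vo,
      lift x (v ≫ φ') ≫ g = lift x (v' ≫ φ') ≫ g := by
    intro v v'
    let a₁ : ∀ v, X ⟶ A := fun v => (lift (𝟙 X) (toUnit X ≫ v ≫ φ') ≫ g) *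
      (toUnit X ≫ lift (u₁ ≫ ρ ≫ jR) (v ≫ φ') ≫ g)⁻¹
    have ha : ∀ (v : 𝟙_ (Over (Spec (CommRingCat.of k))) ⟶ Vo) (y : 𝟙_ (Over (Spec (CommRingCat.of k))) ⟶ X),
        y ≫ a₁ v = (lift y (v ≫ φ') ≫ g) * (lift (u₁ ≫ ρ ≫ jR) (v ≫ φ') ≫ g)⁻¹ := fun v y => by
      simp only [a₁, MonObj.comp_mul, GrpObj.comp_inv, ← Category.assoc, comp_lift, Category.comp_id]
      rw [show y ≫ toUnit X = 𝟙 _ from toUnit_unique _ _, Category.id_comp, Category.id_comp]
    have heq : a₁ v = a₁ v' := by
      haveI : Nonempty ↥(sp k (Localization.Away r)).left := ⟨genericPoint (sp k (Localization.Away r)).left⟩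
      refine ext_pts _ _ U₁ ⟨(ρ ≫ jR).left (genericPoint (sp k (Localization.Away r)).left), Set.mem_range_self (f := (ρ ≫ jR).left) (genericPoint (sp k (Localization.Away r)).left)⟩ fun y hy => ?_
      obtain ⟨z, hz⟩ := hy
      haveI : JacobsonSpace (sp k (Localization.Away r)).left := LocallyOfFiniteType.jacobsonSpace (sp k (Localization.Away r)).hom
      have hzc : IsClosed ({z} : Set (sp k (Localization.Away r)).left) := by
        have h := (isClosed_pt y (IsLocalRing.closedPoint k)).preimage (Scheme.Hom.continuous (ρ ≫ jR).left)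
        rwa [← hz, ← Set.image_singleton, (ρ ≫ jR).left.isOpenEmbedding.injective.preimage_image] at h
      have hy' : ratPt (sp k (Localization.Away r)) z hzc ≫ ρ ≫ jR = y := ratPt_ext _ _ (by
        rw [Over.comp_left, Scheme.Hom.comp_apply, ratPt_apply]; exact hz)
      rw [← hy', ha, ha, ← hval, ← hval, ← hval, ← hval, ← hG, ← hG, hgam', hgam']
    have e := congrArg (x₀ ≫ ·) heq
    simp only [ha, h0, one_mul, inv_inj] at e
    have e2 := congrArg (x ≫ ·) heq
    simp only [ha, e] at e2
    exact mul_right_cancel e2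
  -- density
  haveI := lft_sp (k := k) D
  haveI := isSeparated_sp (k := k) D
  haveI : IsIntegral (sp k D).left := inferInstanceAs (IsIntegral (Spec (CommRingCat.of D)))
  haveI : LocallyOfFiniteType Vo.hom := by rw [← Over.w j]; infer_instance
  haveI : IsLocallyNoetherian Cb.left := LocallyOfFiniteType.isLocallyNoetherian Cb.hom
  haveI : CompactSpace Cb.left := QuasiCompact.compactSpace_of_compactSpace Cb.hom
  haveI : IsNoetherian Cb.left := ⟨⟩
  haveI : QuasiCompact Vo.hom := by
    haveI : CompactSpace Vo.left := isCompact_iff_compactSpace.1 (TopologicalSpace.NoetherianSpace.isCompact (V : Set Cb.left))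
    exact quasiCompact_of_compactSpace _
  haveI : Nonempty V.toScheme := ⟨⟨_, hηV⟩⟩
  haveI : IsIntegral Vo.left := inferInstanceAs (IsIntegral V.toScheme)
  obtain ⟨W, hW, hlift⟩ := exists_open_lift φ'
  obtain ⟨cW, hcW⟩ := exists_ratPt_mem (sp k D) W hW
  obtain ⟨v₀, hv₀⟩ := hlift cW hcW
  have hall : lift (toUnit _ ≫ x) (𝟙 (sp k D)) ≫ g = toUnit _ ≫ lift x cW ≫ g := by
    refine ext_pts _ _ W hW fun d hd => ?_
    obtain ⟨v, rfl⟩ := hlift d hd
    rw [← Category.assoc, ← Category.assoc _ (toUnit _), comp_lift, Category.comp_id, ← Category.assoc _ (toUnit _),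
      show (v ≫ φ') ≫ toUnit _ = 𝟙 _ from toUnit_unique _ _, Category.id_comp, Category.id_comp, ← hv₀]
    exact key v v₀
  have hc : ∀ d : 𝟙_ (Over (Spec (CommRingCat.of k))) ⟶ sp k D, lift x d ≫ g = lift x cW ≫ g := fun d => by
    have := congrArg (d ≫ ·) hall
    simp only [← Category.assoc, comp_lift, Category.comp_id] at this
    rwa [show d ≫ toUnit (sp k D) = 𝟙 _ from toUnit_unique _ _, Category.id_comp, Category.id_comp] at this
  rw [hc c, hc c']

/-- A map on a product of varieties which is trivial on both axes is trivial. -/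
theorem eq_one_of_axes {X Y A : Over (Spec (CommRingCat.of k))} [LocallyOfFiniteType X.hom] [IsIntegral X.left] [IsSeparated X.hom]
    [LocallyOfFiniteType Y.hom] [IsIntegral Y.left] [IsSeparated Y.hom] [GrpObj A] [IsProper A.hom] (F : X ⊗ Y ⟶ A)
    (x₀ : 𝟙_ (Over (Spec (CommRingCat.of k))) ⟶ X) (y₀ : 𝟙_ (Over (Spec (CommRingCat.of k))) ⟶ Y)
    (hY : lift (toUnit Y ≫ x₀) (𝟙 Y) ≫ F = 1) (hX : lift (𝟙 X) (toUnit X ≫ y₀) ≫ F = 1) : F = 1 := by
  haveI : IsIntegral (X ⊗ Y).left := isIntegral_tensor X Y
  haveI : LocallyOfFiniteType (X ⊗ Y).hom := by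
    rw [Over.tensorObj_hom]; infer_instance
  refine ext_pts F 1 ⊤ ⟨genericPoint (X ⊗ Y).left, trivial⟩ fun s _ => ?_
  let x := s ≫ fst X Y
  let y := s ≫ snd X Y
  have hs : s = lift x y := by simp only [x, y, ← comp_lift, lift_fst_snd, Category.comp_id]
  let h : Y ⟶ A := lift (toUnit Y ≫ x) (𝟙 Y) ≫ F
  have hh : ∀ b, b ≫ h = lift x b ≫ F := fun b => by
    simp only [h, ← Category.assoc, comp_lift, Category.comp_id]
    rw [show b ≫ toUnit Y = 𝟙 _ from toUnit_unique _ _, Category.id_comp]
  have hy0 : y₀ ≫ h = 1 := by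
    have := congrArg (x ≫ ·) hX
    simp only [← Category.assoc, comp_lift, Category.comp_id, MonObj.comp_one] at this
    rw [show x ≫ toUnit X = 𝟙 _ from toUnit_unique _ _, Category.id_comp] at this
    rw [hh, this]
  haveI : IsSeparated A.hom := inferInstance
  suffices hpt : y ≫ h = y₀ ≫ h by rw [hs, MonObj.comp_one, ← hh, hpt, hy0]
  refine ratPt_ext _ _ ?_
  let S : Set Y.left := h.left ⁻¹' {(y ≫ h).left (IsLocalRing.closedPoint k)}
  have hS : IsClosed S := (isClosed_pt (y ≫ h) _).preimage (Scheme.Hom.continuous _)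
  have hmem : y.left (IsLocalRing.closedPoint k) ∈ S := by
    exact Set.mem_singleton_iff.2 rfl
  by_cases hu : S = Set.univ
  · have : y₀.left (IsLocalRing.closedPoint k) ∈ S := hu ▸ trivial
    exact (this : h.left _ = _).symm
  · exfalso
    have hye : IsClosed ({y.left (IsLocalRing.closedPoint k)} : Set Y.left) := isClosed_pt y _
    obtain ⟨y', hy'S, hy'y, hdim⟩ := AVAmpleLib.exists_curve_not_mem Y.hom _ hye hS hmem hu
    -- the curve
    obtain ⟨W, hW, hyW, -⟩ := exists_isAffineOpen_mem_and_subset (X := Y.left)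
      (x := y.left (IsLocalRing.closedPoint k)) (U := ⊤) trivial
    have hy'W : y' ∈ W := hy'y.mem_open W.2 hyW
    let p := hW.primeIdealOf ⟨y', hy'W⟩
    let B : Type u := Γ(Y.left, W)
    obtain ⟨cB, hcB⟩ := Spec.map_surjective (hW.fromSpec ≫ Y.hom)
    letI : Algebra k B := cB.hom.toAlgebra
    let fB : Spec (CommRingCat.of B) ⟶ Y.left := hW.fromSpec
    let jB : sp k B ⟶ Y := Over.homMk fB (by
      show hW.fromSpec ≫ Y.hom = Spec.map (CommRingCat.ofHom cB.hom)
      rw [← hcB]
      rfl)
    haveI : IsOpenImmersion fB := inferInstanceAs (IsOpenImmersion hW.fromSpec)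
    haveI : IsOpenImmersion jB.left := inferInstanceAs (IsOpenImmersion fB)
    haveI : Algebra.FiniteType k B := by
      haveI : LocallyOfFiniteType (sp k B).hom := by rw [← Over.w jB]; infer_instance
      have h' : LocallyOfFiniteType (Spec.map (CommRingCat.ofHom (algebraMap k B))) := this
      rw [HasRingHomProperty.Spec_iff (P := @LocallyOfFiniteType)] at h'
      exact RingHom.finiteType_algebraMap.mp h'
    let P : Ideal B := p.asIdeal
    haveI : P.IsPrime := p.2
    let D : Type u := B ⧸ P
    haveI : IsDomain D := inferInstanceAs (IsDomain (B ⧸ P))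
    haveI : Algebra.FiniteType k D :=
      Algebra.FiniteType.of_surjective (Ideal.Quotient.mkₐ k P) Ideal.Quotient.mk_surjective
    have hD : ringKrullDim D = 1 := by
      rw [← hdim, FibDimLib.topologicalKrullDim_closure_eq_affine Y.hom hW hy'W]
    let c : sp k D ⟶ Y := pt (Ideal.Quotient.mkₐ k P) ≫ jB
    have hconst := fun d d' => curve_const D hD ((X ◁ c) ≫ F) x₀ (fun e => by
      have := congrArg ((e ≫ c) ≫ ·) hY
      simp only [← Category.assoc, comp_lift, Category.comp_id, MonObj.comp_one] at this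
      rw [show (e ≫ c) ≫ toUnit Y = 𝟙 _ from toUnit_unique _ _, Category.id_comp] at this
      rw [← Category.assoc, lift_whiskerLeft]; exact this) x d d'
    haveI := lft_sp (k := k) D
    haveI : JacobsonSpace (sp k D).left := LocallyOfFiniteType.jacobsonSpace (sp k D).hom
    -- the point and the generic point lie on the curve
    have hcr : ∀ w : Y.left, w ∈ W → y' ⤳ w → w ∈ Set.range c.left := by
      intro w hw hsp
      let q := hW.primeIdealOf ⟨w, hw⟩
      have hle : P ≤ q.asIdeal := by
        refine (PrimeSpectrum.le_iff_specializes p q).2 ?_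
        refine (hW.fromSpec.isOpenEmbedding.isInducing.specializes_iff (x := p) (y := q)).1 ?_
        rw [hW.fromSpec_primeIdealOf, hW.fromSpec_primeIdealOf]
        exact hsp
      obtain ⟨q', hq'⟩ : q ∈ Set.range (PrimeSpectrum.comap (Ideal.Quotient.mk P)) := by
        rw [range_comap_of_surjective _ _ Ideal.Quotient.mk_surjective, Ideal.mk_ker, PrimeSpectrum.mem_zeroLocus]
        exact hle
      refine ⟨q', ?_⟩
      show (pt (Ideal.Quotient.mkₐ k P) ≫ jB).left q' = w
      rw [Over.comp_left, Scheme.Hom.comp_apply]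
      exact (congrArg fB hq').trans (hW.fromSpec_primeIdealOf _)
    obtain ⟨d₀, hd₀⟩ := hcr _ hyW hy'y
    have hcd : IsClosed ({d₀} : Set (sp k D).left) := by
      haveI : IsClosedImmersion (pt (Ideal.Quotient.mkₐ k P)).left :=
        IsClosedImmersion.spec_of_surjective _ Ideal.Quotient.mk_surjective
      have hi : Function.Injective c.left := by
        show Function.Injective (pt (Ideal.Quotient.mkₐ k P) ≫ jB).left
        intro a b hab
        rw [Over.comp_left, Scheme.Hom.comp_apply, Scheme.Hom.comp_apply] at hab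
        exact (pt (Ideal.Quotient.mkₐ k P)).left.isClosedEmbedding.injective (jB.left.isOpenEmbedding.injective hab)
      have h1 := hye.preimage (Scheme.Hom.continuous c.left)
      rwa [← hd₀, ← Set.image_singleton, hi.preimage_image] at h1
    obtain ⟨z, hz⟩ := hcr y' hy'W specializes_rfl
    have hall : (c.left ⁻¹' S) = Set.univ := by
      refine Set.eq_univ_of_univ_subset ?_
      rw [← closure_closedPoints]
      refine closure_minimal (fun d hd => ?_) (hS.preimage (Scheme.Hom.continuous _))
      have e := hconst (ratPt _ d hd) (ratPt _ d₀ hcd)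
      rw [← Category.assoc, ← Category.assoc, lift_whiskerLeft, lift_whiskerLeft, ← hh, ← hh] at e
      have e' := congrArg (fun w => w.left (IsLocalRing.closedPoint k)) e
      simp only [Over.comp_left, Scheme.Hom.comp_apply, ratPt_apply] at e'
      rw [hd₀] at e'
      show h.left (c.left d) ∈ ({_} : Set A.left)
      rw [e', Over.comp_left, Scheme.Hom.comp_apply]
      exact rfl
    have hz' : z ∈ c.left ⁻¹' S := hall ▸ trivial
    exact hy'S (hz ▸ hz')

end AlbLib
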