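import Groth.Agent.AlbLib.AVBasic
import Groth.Agent.S7795
import Groth.Prelude

/-!
# Abelian varieties as reduced connected groups
-/

set_option autoImplicit false
set_option linter.style.haveILetI false
set_option backward.isDefEq.respectTransparency false

universe u

open CategoryTheory CategoryTheory.Limits MonoidalCategory CartesianMonoidalCategory AlgebraicGeometry
open scoped MonObj

noncomputable section

namespace AlbLib

variable {k : Type u} [Field k]

/-- A geometrically reduced group of finite type over a field is smooth. -/
theorem smooth_grp (G : Over (Spec (CommRingCat.of k))) [GrpObj G] [LocallyOfFiniteType G.hom]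
    [GeometricallyReduced G.hom] : Smooth G.hom := by
  haveI : Flat G.hom := Groth.Agent.GrpField.flat_field _
  haveI : IsLocallyNoetherian (Spec (CommRingCat.of k)) := inferInstance
  haveI : LocallyOfFinitePresentation G.hom := LocallyOfFinitePresentation.iff_locallyOfFiniteType.2 inferInstance
  exact Groth.Agent.S7795.result G

/-- A geometrically reduced connected group of finite type is a variety. -/
theorem geometricallyIntegral_of_reduced_connected (G : Over (Spec (CommRingCat.of k))) [GrpObj G]
    [LocallyOfFiniteType G.hom] [GeometricallyReduced G.hom] [ConnectedSpace G.left] :
    GeometricallyIntegral G.hom :=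
  haveI := smooth_grp G
  geometricallyIntegral_grp G

/-- The source of a geometrically integral morphism to a field is connected. -/
theorem connectedSpace_gi (G : Over (Spec (CommRingCat.of k))) [GeometricallyIntegral G.hom] :
    ConnectedSpace G.left := by
  haveI : Subsingleton ↥(Spec (CommRingCat.of k)) := inferInstanceAs (Subsingleton (PrimeSpectrum k))
  haveI : IsIntegral G.left := GeometricallyIntegral.isIntegral_of_subsingleton G.hom
  infer_instance

end AlbLib
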