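import Groth.Agent.AlbLib.AVBasic
import Groth.Agent.AntiAffLib.OpenSub
import Groth.Agent.AntiAffLib.KerSub
import Groth.Agent.AntiAffLib.Descend
import Groth.Agent.FlatLib.SmoothScheme
import Groth.Agent.GrpFieldLib.KerShear
import Groth.Agent.GrpHomLib.FlatImage
import Groth.Agent.S4362
import Groth.Agent.S0084
import Groth.Prelude

/-!
# The Albanese quotient of a smooth connected group
-/

set_option autoImplicit false
set_option linter.style.haveILetI false
set_option backward.isDefEq.respectTransparency false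
set_option maxHeartbeats 1600000

universe u

open CategoryTheory CategoryTheory.Limits MonoidalCategory CartesianMonoidalCategory AlgebraicGeometry
open scoped MonObj

noncomputable section

namespace AlbLib

variable {k : Type u} [Field k]

/-- A group with an open connected subgroup with kernel quotient is finite. -/
theorem isFinite_of_open_kernel {N₀ N E : Over (Spec (CommRingCat.of k))} [GrpObj N₀] [GrpObj N] [GrpObj E]
    [LocallyOfFiniteType N.hom] [QuasiCompact N.hom] [LocallyOfFiniteType E.hom]
    (i₀ : N₀ ⟶ N) [IsOpenImmersion i₀.left] (r : N ⟶ E) [IsMonHom r] [Flat r.left] [Surjective r.left]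
    (hr : AlgGrp.IsKernel i₀ r) : IsFinite E.hom := by
  haveI := AntiAffLib.lfp_of_lft r
  haveI : IsSeparated E.hom := Groth.Agent.GrpField.isSeparated_grp (G := E)
  haveI : CompactSpace N.left := QuasiCompact.compactSpace_of_compactSpace N.hom
  haveI : CompactSpace E.left := ⟨by
    rw [← Set.range_eq_univ.mpr r.left.surjective]; exact isCompact_range r.left.continuous⟩
  haveI : QuasiCompact E.hom := quasiCompact_of_compactSpace _
  haveI : QuasiCompact r.left := by
    haveI : QuasiCompact (r.left ≫ E.hom) := by rw [Over.w r]; infer_instance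
    exact QuasiCompact.of_comp r.left E.hom
  haveI : IsOpenImmersion (η[E] : 𝟙_ (Over (Spec (CommRingCat.of k))) ⟶ E).left := by
    haveI : IsClosedImmersion (η[E] : 𝟙_ (Over (Spec (CommRingCat.of k))) ⟶ E).left := by
      haveI : IsClosedImmersion ((η[E] : 𝟙_ (Over (Spec (CommRingCat.of k))) ⟶ E).left ≫ E.hom) := by
        rw [Over.w]; exact inferInstanceAs (IsClosedImmersion (𝟙 (Spec (CommRingCat.of k))))
      exact IsClosedImmersion.of_comp _ E.hom
    haveI : Flat (η[E] : 𝟙_ (Over (Spec (CommRingCat.of k))) ⟶ E).left :=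
      MorphismProperty.of_isPullback_of_descendsAlong (P := @Flat) (Q := @Surjective ⊓ @Flat ⊓ @QuasiCompact)
        (hr.map (Over.forget _)) ⟨⟨‹Surjective r.left›, ‹Flat r.left›⟩, ‹QuasiCompact r.left›⟩
        (inferInstance : Flat i₀.left)
    haveI : LocallyOfFiniteType (𝟙_ (Over (Spec (CommRingCat.of k)))).hom :=
      inferInstanceAs (LocallyOfFiniteType (𝟙 _))
    haveI := AntiAffLib.lfp_of_lft (η[E] : 𝟙_ (Over (Spec (CommRingCat.of k))) ⟶ E)
    exact IsOpenImmersion.of_flat_of_mono _
  haveI := AntiAffLib.etale_of_open_unit (P := E)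
  haveI : Subsingleton ↥(Spec (CommRingCat.of k)) := inferInstanceAs (Subsingleton (PrimeSpectrum k))
  haveI : LocallyQuasiFinite E.hom := WeightLib.locallyQuasiFinite_of_etale E.hom
  exact Groth.Agent.QuotRep.isFinite_of_subsingleton E.hom fun y => E.hom.finite_preimage_singleton y

variable {G : Over (Spec (CommRingCat.of k))} [GrpObj G] [Smooth G.hom] [QuasiCompact G.hom] [ConnectedSpace G.left]

/-- The image of a smooth connected group in a proper group is an abelian variety. -/
theorem exists_av_image {H : Over (Spec (CommRingCat.of k))} [GrpObj H] [IsProper H.hom] (f : G ⟶ H) [IsMonHom f] :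
    ∃ (C : Over (Spec (CommRingCat.of k))) (_ : GrpObj C) (p : G ⟶ C), IsMonHom p ∧ IsProper C.hom ∧ Smooth C.hom ∧
      ConnectedSpace C.left ∧ Flat p.left ∧ Surjective p.left ∧
      ∀ (T : Over (Spec (CommRingCat.of k))) (t : T ⟶ G), t ≫ p = 1 ↔ t ≫ f = 1 := by
  haveI : Flat G.hom := Groth.Agent.GrpField.flat_field _
  haveI : CompactSpace G.left := QuasiCompact.compactSpace_of_compactSpace G.hom
  haveI : QuasiCompact f.left := by
    haveI : QuasiCompact (f.left ≫ H.hom) := by rw [Over.w f]; infer_instance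
    exact QuasiCompact.of_comp f.left H.hom
  obtain ⟨C, _, p, i, _, _, hpi, hpf, hps, hpl, hi⟩ :=
    Groth.Agent.GrpHom.exists_fppf_image f (Groth.Agent.GrpField.flat_field _)
  haveI := hi; haveI := hpf; haveI := hps; haveI := hpl
  haveI : IsProper C.hom := by rw [← Over.w i]; infer_instance
  haveI : Smooth C.hom := by
    haveI : Smooth (p.left ≫ C.hom) := by rw [Over.w p]; infer_instance
    exact FlatLib.smooth_of_fppf_comp p.left C.hom
  haveI : ConnectedSpace C.left := p.left.surjective.connectedSpace p.left.continuous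
  haveI : Mono i := Over.mono_of_mono_left i
  refine ⟨C, inferInstance, p, inferInstance, inferInstance, inferInstance, inferInstance, hpf, hps, fun T t => ?_⟩
  rw [← hpi, ← Category.assoc, ← cancel_mono i, MonObj.one_comp]

/-- A subgroup which is the kernel of a surjection to an abelian variety. -/
def AVKer {N : Over (Spec (CommRingCat.of k))} [GrpObj N] (i : N ⟶ G) : Prop :=
  ∃ (A : Over (Spec (CommRingCat.of k))) (_ : GrpObj A) (α : G ⟶ A), IsMonHom α ∧ IsProper A.hom ∧ Smooth A.hom ∧
    ConnectedSpace A.left ∧ Flat α.left ∧ Surjective α.left ∧ AlgGrp.IsKernel i α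

/-- The kernel of a homomorphism to a proper group is the kernel of a surjection to an abelian variety. -/
theorem exists_avKer {H : Over (Spec (CommRingCat.of k))} [GrpObj H] [IsProper H.hom] (f : G ⟶ H) [IsMonHom f] :
    ∃ (K : Over (Spec (CommRingCat.of k))) (_ : GrpObj K) (iK : K ⟶ G), IsMonHom iK ∧ IsClosedImmersion iK.left ∧
      AlgGrp.IsNormalHom iK ∧ AVKer iK ∧ AlgGrp.IsKernel iK f := by
  obtain ⟨K, _, iK, hm, hci, hk, hn⟩ := AntiAffLib.exists_kernel f
  haveI : Mono iK := Over.mono_of_mono_left iK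
  obtain ⟨C, _, p, hp, hCp, hCs, hCc, hpf, hps, hpt⟩ := exists_av_image f
  refine ⟨K, inferInstance, iK, hm, hci, hn, ⟨C, inferInstance, p, hp, hCp, hCs, hCc, hpf, hps, ?_⟩, hk⟩
  exact AntiAffLib.isKernel_of_forall iK p ((hpt _ _).2 (AntiAffLib.kernel_comp hk))
    fun T t ht => AntiAffLib.exists_lift_kernel hk t ((hpt T t).1 ht)

/-- A smallest kernel of a surjection to an abelian variety. -/
theorem exists_min_avKer (G : Over (Spec (CommRingCat.of k))) [GrpObj G] [Smooth G.hom] [QuasiCompact G.hom]
    [ConnectedSpace G.left] :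
    ∃ (N : Over (Spec (CommRingCat.of k))) (_ : GrpObj N) (i : N ⟶ G), IsMonHom i ∧ IsClosedImmersion i.left ∧
      AlgGrp.IsNormalHom i ∧ AVKer i ∧
      ∀ (B : Over (Spec (CommRingCat.of k))) [GrpObj B] [IsProper B.hom] (f : G ⟶ B) [IsMonHom f], i ≫ f = 1 := by
  haveI : IsLocallyNoetherian G.left := LocallyOfFiniteType.isLocallyNoetherian G.hom
  haveI : CompactSpace G.left := QuasiCompact.compactSpace_of_compactSpace G.hom
  haveI : IsNoetherian G.left := ⟨⟩
  haveI := Groth.Agent.S4362.result G.left
  let S : Set G.left.IdealSheafData := {I | ∃ (N : Over (Spec (CommRingCat.of k))) (_ : GrpObj N) (i : N ⟶ G),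
    IsMonHom i ∧ IsClosedImmersion i.left ∧ AlgGrp.IsNormalHom i ∧ AVKer i ∧ i.left.ker = I}
  have hne : S.Nonempty := by
    haveI : IsProper (𝟙_ (Over (Spec (CommRingCat.of k)))).hom := inferInstanceAs (IsProper (𝟙 _))
    obtain ⟨K, hK, iK, h1, h2, h3, h4, -⟩ := exists_avKer (toUnit G)
    exact ⟨_, K, hK, iK, h1, h2, h3, h4, rfl⟩
  obtain ⟨_, ⟨N, _, i, hm, hci, hn, hA, rfl⟩, hmax⟩ := WellFounded.has_min wellFounded_gt S hne
  haveI := hm; haveI := hci
  refine ⟨N, inferInstance, i, hm, hci, hn, hA, fun B _ _ f _ => ?_⟩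
  obtain ⟨A, _, α, hαm, hAp, hAs, hAc, hαf, hαs, hα⟩ := hA
  haveI := hαm; haveI := hAp
  haveI : IsProper (A ⊗ B).hom := by rw [Over.tensorObj_hom]; infer_instance
  haveI : IsMonHom (lift α f) := inferInstance
  obtain ⟨K, hK, iK, h1, h2, h3, h4, hk⟩ := exists_avKer (lift α f)
  haveI := h2
  have hkα : iK ≫ α = 1 := by
    have h := congrArg (· ≫ fst A B) (AntiAffLib.kernel_comp hk)
    simpa only [Category.assoc, lift_fst, Hom.one_def, IsMonHom.one_hom] using h
  obtain ⟨l, hl⟩ := AntiAffLib.exists_lift_kernel hα iK hkα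
  have hle : i.left.ker ≤ iK.left.ker := by
    rw [← hl, Over.comp_left]; exact Scheme.Hom.le_ker_comp _ _
  have heq : iK.left.ker = i.left.ker :=
    (hle.eq_of_not_lt (fun hlt => hmax _ ⟨K, hK, iK, h1, h2, h3, h4, rfl⟩ hlt)).symm
  haveI : IsIso l.left := IsClosedImmersion.isIso_of_ker_eq iK.left i.left l.left
    (congrArg CommaMorphism.left hl) heq
  haveI : IsIso ((Over.forget _).map l) := ‹IsIso l.left›
  haveI : IsIso l := isIso_of_reflects_iso l (Over.forget _)
  rw [← cancel_epi l, ← Category.assoc, hl, MonObj.comp_one]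
  have h := congrArg (· ≫ snd A B) (AntiAffLib.kernel_comp hk)
  simpa only [Category.assoc, lift_snd, Hom.one_def, IsMonHom.one_hom] using h

/-- The identity component of a normal subgroup of a connected group is normal. -/
theorem isNormalHom_component {N N₀ : Over (Spec (CommRingCat.of k))} [GrpObj N] [GrpObj N₀]
    [LocallyOfFiniteType N.hom] [QuasiCompact N.hom] [LocallyOfFiniteType N₀.hom] [QuasiCompact N₀.hom]
    [ConnectedSpace N₀.left] (i : N ⟶ G) [IsMonHom i] [Mono i] (hn : AlgGrp.IsNormalHom i)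
    (j : N₀ ⟶ N) [IsMonHom j] [IsOpenImmersion j.left] : AlgGrp.IsNormalHom (j ≫ i) := by
  obtain ⟨c, hc⟩ := hn (N₀ ⊗ G) (snd N₀ G) (fst N₀ G ≫ j)
  haveI : Flat N₀.hom := Groth.Agent.GrpField.flat_field _
  haveI : Flat G.hom := Groth.Agent.GrpField.flat_field _
  haveI : GeometricallyIntegral G.hom := geometricallyIntegral_grp G
  haveI : Subsingleton ↥(Spec (CommRingCat.of k)) := inferInstanceAs (Subsingleton (PrimeSpectrum k))
  haveI : GeometricallyIrreducible N₀.hom := by
    have h := Groth.Agent.GrpField.geometricallyIrreducible_of_range (G := N₀) (𝟙 N₀.left) (by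
      rw [← Groth.Agent.GrpField.connectedComponent_unit, PreconnectedSpace.connectedComponent_eq_univ]
      exact Set.range_eq_univ.2 fun x => ⟨x, rfl⟩)
    rwa [Category.id_comp] at h
  haveI : IrreducibleSpace G.left := GeometricallyIrreducible.irreducibleSpace_of_subsingleton G.hom
  haveI : IrreducibleSpace ↥(N₀ ⊗ G).left :=
    GeometricallyIrreducible.irreducibleSpace (pullback.snd N₀.hom G.hom) (Scheme.Hom.isOpenMap _)
  let e : 𝟙_ (Over (Spec (CommRingCat.of k))) ⟶ N₀ ⊗ G := lift η[N₀] η[G]
  have he : e ≫ c = η[N] := by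
    rw [← cancel_mono i, Category.assoc, ← hc, IsMonHom.one_hom]
    simp only [e, MonObj.comp_mul, GrpObj.comp_inv, ← Category.assoc, lift_fst, lift_snd]
    rw [show η[G] = (1 : 𝟙_ (Over (Spec (CommRingCat.of k))) ⟶ G) by
      rw [Hom.one_def, toUnit_unique (toUnit (𝟙_ (Over (Spec (CommRingCat.of k))))) (𝟙 _), Category.id_comp]]
    simp [Hom.one_def, toUnit_unique (toUnit (𝟙_ (Over (Spec (CommRingCat.of k))))) (𝟙 _)]
  have hr : Set.range c.left ⊆ Set.range j.left := by
    rw [AntiAffLib.range_eq_component j]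
    refine (isPreconnected_range c.left.continuous).subset_connectedComponent ?_
    exact ⟨e.left (IsLocalRing.closedPoint k), congr($(congrArg CommaMorphism.left he) (IsLocalRing.closedPoint k))⟩
  let c' : N₀ ⊗ G ⟶ N₀ := Over.homMk (IsOpenImmersion.lift j.left c.left hr) (by
    rw [← Over.w j, ← Category.assoc, IsOpenImmersion.lift_fac, Over.w c])
  have hc' : c' ≫ j = c := Over.OverMorphism.ext (IsOpenImmersion.lift_fac _ _ _)
  intro T g n
  refine ⟨lift n g ≫ c', ?_⟩
  have h := congrArg (lift n g ≫ ·) hc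
  simp only [MonObj.comp_mul, GrpObj.comp_inv, ← Category.assoc, lift_fst, lift_snd] at h
  rw [← Category.assoc (lift n g ≫ c'), Category.assoc (lift n g) c' j, hc']
  exact h

/-- The smallest kernel of a surjection to an abelian variety is connected. -/
theorem connectedSpace_min {N : Over (Spec (CommRingCat.of k))} [GrpObj N] (i : N ⟶ G) [IsMonHom i]
    [IsClosedImmersion i.left] (hn : AlgGrp.IsNormalHom i) (hA : AVKer i)
    (hmin : ∀ (B : Over (Spec (CommRingCat.of k))) [GrpObj B] [IsProper B.hom] (f : G ⟶ B) [IsMonHom f], i ≫ f = 1) :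
    ConnectedSpace N.left := by
  haveI : LocallyOfFiniteType N.hom := by rw [← Over.w i]; infer_instance
  haveI : QuasiCompact N.hom := by rw [← Over.w i]; infer_instance
  haveI : Mono i := Over.mono_of_mono_left i
  obtain ⟨N₀, _, j, _, hjc, hjf, hjr, hgi, hjk⟩ := Groth.Agent.GrpField.exists_identity_component (G := N)
  haveI := hjc; haveI := hjf; haveI := hgi; haveI := hjk
  haveI : LocallyOfFiniteType N₀.hom := by rw [← Over.w j]; infer_instance
  haveI : QuasiCompact N₀.hom := by rw [← Over.w j]; infer_instance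
  haveI : IsLocallyNoetherian N.left := LocallyOfFiniteType.isLocallyNoetherian N.hom
  haveI : LocallyOfFinitePresentation j.left := LocallyOfFinitePresentation.iff_locallyOfFiniteType.2 inferInstance
  haveI : IsOpenImmersion j.left := IsOpenImmersion.of_flat_of_mono j.left
  haveI : Subsingleton ↥(Spec (CommRingCat.of k)) := inferInstanceAs (Subsingleton (PrimeSpectrum k))
  haveI : IrreducibleSpace N₀.left := GeometricallyIrreducible.irreducibleSpace_of_subsingleton N₀.hom
  haveI : ConnectedSpace N₀.left := inferInstance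
  haveI : Mono j := Over.mono_of_mono_left j
  haveI : Mono (j ≫ i) := mono_comp _ _
  haveI : IsClosedImmersion (j ≫ i).left := by rw [Over.comp_left]; infer_instance
  haveI : Flat N₀.hom := Groth.Agent.GrpField.flat_field _
  haveI : Flat G.hom := Groth.Agent.GrpField.flat_field _
  obtain ⟨A', _, p, _, hpf, hps, hpl, hpk, hAsep, -, hAsm⟩ :=
    Groth.Agent.S3030.result k N₀ G (j ≫ i) (isNormalHom_component i hn j)
  haveI := hpf; haveI := hps; haveI := hpl; haveI := hAsep
  haveI : Smooth A'.hom := hAsm inferInstance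
  haveI : CompactSpace G.left := QuasiCompact.compactSpace_of_compactSpace G.hom
  haveI : CompactSpace A'.left := ⟨by
    rw [← Set.range_eq_univ.mpr p.left.surjective]; exact isCompact_range p.left.continuous⟩
  haveI : QuasiCompact A'.hom := quasiCompact_of_compactSpace _
  obtain ⟨A, _, α, hαm, hAp, hAs, hAc, hαf, hαs, hα⟩ := hA
  haveI := hαm; haveI := hAp; haveI := hAs; haveI := hαs; haveI := hαf
  have hd : ∀ (T : Over (Spec (CommRingCat.of k))) (a b : T ⟶ G), a ≫ p = b ≫ p → a ≫ α = b ≫ α := by
    intro T a b e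
    obtain ⟨l, hl⟩ := AntiAffLib.exists_lift_kernel hpk (a * b⁻¹)
      (by rw [MonObj.mul_comp, GrpObj.inv_comp, e, mul_inv_cancel])
    have h := congrArg (· ≫ α) hl
    simp only [Category.assoc] at h
    rw [AntiAffLib.kernel_comp hα, MonObj.comp_one, MonObj.comp_one, MonObj.mul_comp, GrpObj.inv_comp] at h
    exact mul_inv_eq_one.1 h.symm
  obtain ⟨q, hq⟩ := Groth.Agent.MonoQuot.exists_desc_over p α hd
  haveI := Groth.Agent.MonoQuot.epi_over p
  haveI : IsMonHom q := by
    have h1 : η[A'] ≫ q = η[A] := by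
      rw [← IsMonHom.one_hom p, Category.assoc, hq, IsMonHom.one_hom]
    refine { one_hom := h1, mul_hom := ?_ }
    obtain ⟨_, _, _⟩ := Groth.Agent.MonoQuot.fppf_tensor p p
    haveI := Groth.Agent.MonoQuot.epi_over (p ⊗ₘ p)
    rw [← cancel_epi (p ⊗ₘ p), tensorHom_comp_tensorHom_assoc, hq, ← IsMonHom.mul_hom_assoc, hq, IsMonHom.mul_hom]
  haveI : Surjective q.left := by
    haveI : Surjective (p.left ≫ q.left) := by rw [← Over.comp_left, hq]; infer_instance
    exact Surjective.of_comp p.left q.left
  haveI : IsReduced A.left := by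
    haveI := geometricallyIntegral_grp A
    haveI : IsIntegral A.left := GeometricallyIntegral.isIntegral_of_subsingleton A.hom
    infer_instance
  haveI : Flat q.left := AntiAffLib.flat_of_surjective q
  haveI : QuasiCompact q.left := by
    haveI : QuasiCompact (q.left ≫ A.hom) := by rw [Over.w q]; infer_instance
    exact QuasiCompact.of_comp q.left A.hom
  obtain ⟨E, _, iE, _, hiE, hkE, -⟩ := AntiAffLib.exists_kernel q
  haveI := hiE
  haveI : LocallyOfFiniteType E.hom := by rw [← Over.w iE]; infer_instance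
  haveI : Mono iE := Over.mono_of_mono_left iE
  obtain ⟨r, hr⟩ := AntiAffLib.exists_lift_kernel hkE (i ≫ p)
    (by rw [Category.assoc, hq, AntiAffLib.kernel_comp hα])
  haveI : IsMonHom (r ≫ iE) := by rw [hr]; infer_instance
  haveI : IsMonHom r := Groth.Agent.DiagRep.isMonHom_of_comp_mono r iE
  have hsq : IsPullback r i iE p := by
    have hex : ∀ s : PullbackCone iE p, ∃ l : s.pt ⟶ N, l ≫ i = s.snd := fun s =>
      AntiAffLib.exists_lift_kernel hα s.snd (by
        rw [← hq, ← Category.assoc, ← s.condition, Category.assoc, AntiAffLib.kernel_comp hkE, MonObj.comp_one])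
    refine IsPullback.of_isLimit' ⟨hr⟩ (PullbackCone.IsLimit.mk _ (fun s => (hex s).choose)
      (fun s => ?_) (fun s => (hex s).choose_spec) (fun s m h1 h2 => ?_))
    · rw [← cancel_mono iE, Category.assoc, hr, ← Category.assoc, (hex s).choose_spec]
      exact s.condition.symm
    · rw [← cancel_mono i]
      exact h2.trans (hex s).choose_spec.symm
  have hsql := (hsq.map (Over.forget _)).flip
  haveI : Flat r.left := MorphismProperty.of_isPullback (P := @Flat) hsql.flip.flip hpf
  haveI : Surjective r.left := MorphismProperty.of_isPullback (P := @Surjective) hsql.flip.flip hps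
  have hrk : AlgGrp.IsKernel j r := by
    refine AntiAffLib.isKernel_of_forall j r ?_ fun T t ht => ?_
    · rw [← cancel_mono iE, Category.assoc, hr, MonObj.one_comp, ← Category.assoc, AntiAffLib.kernel_comp hpk]
    · obtain ⟨l, hl⟩ := AntiAffLib.exists_lift_kernel hpk (t ≫ i) (by
        rw [Category.assoc, ← hr, ← Category.assoc, ht, MonObj.one_comp])
      exact ⟨l, by rw [← cancel_mono i, Category.assoc, hl]⟩
  haveI : IsFinite E.hom := isFinite_of_open_kernel j r hrk
  haveI : IsFinite q.left := MorphismProperty.of_isPullback_of_descendsAlong (P := @IsFinite)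
    (Q := @Surjective ⊓ @Flat ⊓ @QuasiCompact) ((Groth.Agent.GrpKerShear.isPullback_shear q iE hkE).map (Over.forget _))
    ⟨⟨‹Surjective q.left›, ‹Flat q.left›⟩, ‹QuasiCompact q.left›⟩ (by
      show IsFinite (fst A' E).left
      rw [Over.fst_left]
      exact MorphismProperty.pullback_fst _ _ inferInstance)
  haveI : IsProper A'.hom := by rw [← Over.w q]; infer_instance
  have h0 := hmin A' p
  obtain ⟨l, hl⟩ := AntiAffLib.exists_lift_kernel hpk i h0
  have hl' : l ≫ j = 𝟙 N := by rw [← cancel_mono i, Category.assoc, hl, Category.id_comp]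
  refine Function.Surjective.connectedSpace (f := j.left) (fun x => ⟨l.left x, ?_⟩) j.left.continuous
  exact congr($(congrArg CommaMorphism.left hl') x)

end AlbLib
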