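import Mathlib

/-!
# The generic point of a section of a relative curve has a discrete valuation ring
-/

set_option autoImplicit false
set_option linter.style.haveILetI false

universe u

open TensorProduct

noncomputable section

namespace AlbLib

variable {k A R : Type u} [Field k] [CommRing A] [Algebra k A] [CommRing R] [Algebra k R] [IsDomain R]

/-- The point `id ⊗ ev` of `R ⊗ A`. -/
def sectionHom (ev : A →ₐ[k] k) : R ⊗[k] A →ₐ[k] R :=
  Algebra.TensorProduct.lift (AlgHom.id k R) ((Algebra.ofId k R).comp ev) (fun _ _ => Commute.all _ _)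

omit [IsDomain R] in
theorem sectionHom_tmul (ev : A →ₐ[k] k) (r : R) (a : A) : sectionHom ev (r ⊗ₜ a) = r * algebraMap k R (ev a) := by
  simp [sectionHom, Algebra.ofId_apply]

omit [IsDomain R] in
theorem ker_sectionHom (ev : A →ₐ[k] k) :
    RingHom.ker (sectionHom (R := R) ev) =
      (RingHom.ker ev).map (Algebra.TensorProduct.includeRight : A →ₐ[k] R ⊗[k] A) := by
  rw [← Algebra.TensorProduct.lTensor_ker ev (fun c => ⟨algebraMap k A c, by simp⟩)]
  have e : sectionHom (R := R) ev =
      (Algebra.TensorProduct.rid k k R).toAlgHom.comp (Algebra.TensorProduct.map (AlgHom.id k R) ev) := by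
    ext x <;> simp [sectionHom_tmul, Algebra.smul_def]
  ext x
  simp [RingHom.mem_ker, e]

/-- If the point `ev` of `A` has principal maximal ideal after localization, the point `id ⊗ ev` has a discrete
valuation ring. -/
theorem dvr_tensor [IsDomain (R ⊗[k] A)] [IsNoetherianRing (R ⊗[k] A)] (ev : A →ₐ[k] k)
    [(RingHom.ker (sectionHom (R := R) ev)).IsPrime] (t : A) (ht : ev t = 0) (ht0 : t ≠ 0)
    (hgen : ∀ a, ev a = 0 → ∃ h, ev h ≠ 0 ∧ t ∣ h * a) :
    IsDiscreteValuationRing (Localization.AtPrime (RingHom.ker (sectionHom (R := R) ev))) := by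
  let p := RingHom.ker (sectionHom (R := R) ev)
  let L := Localization.AtPrime p
  let i : R ⊗[k] A →+* L := algebraMap _ L
  have hi : Function.Injective i := IsLocalization.injective L p.primeCompl_le_nonZeroDivisors
  have htp : (1 ⊗ₜ t : R ⊗[k] A) ∈ p := by
    show sectionHom ev _ = 0
    simp [sectionHom_tmul, ht]
  have ht1 : (1 ⊗ₜ t : R ⊗[k] A) ≠ 0 := fun h => ht0
    (Algebra.TensorProduct.includeRight_injective (A := R) (B := A) (FaithfulSMul.algebraMap_injective k R)
      (h.trans (by simp)))
  have hm : IsLocalRing.maximalIdeal L = Ideal.span {i (1 ⊗ₜ t)} := by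
    refine le_antisymm ?_ ?_
    · rw [← IsLocalization.AtPrime.map_eq_maximalIdeal p L, Ideal.map_le_iff_le_comap]
      refine (ker_sectionHom ev).le.trans ?_
      rw [Ideal.map_le_iff_le_comap]
      intro a ha
      obtain ⟨h, hh, c, hc⟩ := hgen a ha
      have hu : IsUnit (i (1 ⊗ₜ h)) := IsLocalization.map_units L (⟨_, fun h' => hh ?_⟩ : p.primeCompl)
      · rw [Ideal.mem_comap, Ideal.mem_comap, Ideal.mem_span_singleton]
        refine (hu.dvd_mul_left (a := i (1 ⊗ₜ t))).1 ⟨i (1 ⊗ₜ c), ?_⟩
        show i (1 ⊗ₜ h) * i (Algebra.TensorProduct.includeRight a) = _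
        rw [← map_mul, ← map_mul, Algebra.TensorProduct.includeRight_apply, Algebra.TensorProduct.tmul_mul_tmul,
          Algebra.TensorProduct.tmul_mul_tmul, hc]
      · have h'' : sectionHom (R := R) ev (1 ⊗ₜ h) = 0 := h'
        rw [sectionHom_tmul, one_mul] at h''
        exact FaithfulSMul.algebraMap_injective k R (h''.trans (map_zero _).symm)
    · rw [Ideal.span_le, Set.singleton_subset_iff, ← IsLocalization.AtPrime.map_eq_maximalIdeal p L]
      exact Ideal.mem_map_of_mem _ htp
  have hnf : ¬ IsField L := fun hf => by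
    have h0 := IsLocalRing.isField_iff_maximalIdeal_eq.1 hf
    rw [hm, Ideal.span_singleton_eq_bot] at h0
    exact ht1 (hi (h0.trans (map_zero i).symm))
  haveI : IsDomain L := IsLocalization.isDomain_of_le_nonZeroDivisors _ p.primeCompl_le_nonZeroDivisors
  haveI : IsNoetherianRing L := IsLocalization.isNoetherianRing p.primeCompl L inferInstance
  have hp : (IsLocalRing.maximalIdeal L).IsPrincipal := ⟨⟨i (1 ⊗ₜ t), hm⟩⟩
  exact ((IsDiscreteValuationRing.TFAE L hnf).out 4 0).1 hp

end AlbLib
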