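import Mathlib
import Groth.Agent.NormalExtLib.Glue

/-!
# Morphisms into proper schemes extend over points with discrete valuation rings
-/

set_option autoImplicit false
set_option linter.style.haveILetI false
set_option backward.isDefEq.respectTransparency false

universe u

open CategoryTheory Limits AlgebraicGeometry TopologicalSpace

noncomputable section

namespace AlbLib

variable {S P A : Scheme.{u}} (sP : P ⟶ S) (sA : A ⟶ S) [IsIntegral P] [IsProper sA]

/-- A morphism on an open extends over a point whose local ring is a discrete valuation ring. -/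
theorem exists_extend_point (O : P.Opens) (hO : genericPoint P ∈ O) (g : O.toScheme ⟶ A) (hg : g ≫ sA = O.ι ≫ sP)
    (ξ : P) [IsDiscreteValuationRing (P.presheaf.stalk ξ)] :
    ∃ (O' : P.Opens) (hle : O ≤ O') (g' : O'.toScheme ⟶ A), ξ ∈ O' ∧ g' ≫ sA = O'.ι ≫ sP ∧
      P.homOfLE hle ≫ g' = g := by
  let η := genericPoint P
  have hsp : η ⤳ ξ := (genericPoint_spec P).specializes trivial
  let i₁ : Spec (CommRingCat.of P.functionField) ⟶ A := O.fromSpecStalkOfMem η hO ≫ g
  let i₂ : Spec (CommRingCat.of (P.presheaf.stalk ξ)) ⟶ S := P.fromSpecStalk ξ ≫ sP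
  have hsq : CommSq i₁ (Spec.map (CommRingCat.ofHom (algebraMap (P.presheaf.stalk ξ) P.functionField))) sA i₂ := ⟨by
    show (O.fromSpecStalkOfMem η hO ≫ g) ≫ sA = Spec.map (P.presheaf.stalkSpecializes hsp) ≫ P.fromSpecStalk ξ ≫ sP
    rw [Category.assoc, hg, ← Category.assoc, Scheme.Opens.fromSpecStalkOfMem_ι,
      Scheme.SpecMap_stalkSpecializes_fromSpecStalk_assoc]⟩
  have hA : ValuativeCriterion sA := by
    have h := IsProper.eq_valuativeCriterion
    have hp : IsProper sA := inferInstance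
    rw [h] at hp
    exact hp.1.1.1
  obtain ⟨l, hl₁, hl₂⟩ := (hA.existence
    { R := P.presheaf.stalk ξ, K := P.functionField, i₁ := i₁, i₂ := i₂, commSq := hsq }).exists_lift
  obtain ⟨W, hξW, fW, hfac, hover⟩ := spread_out_of_isGermInjective' sP sA (x := ξ) l hl₂
  have hagree : P.homOfLE (inf_le_left : O ⊓ W ≤ O) ≫ g = P.homOfLE (inf_le_right : O ⊓ W ≤ W) ≫ fW := by
    have hηW : η ∈ W := hsp.mem_open W.2 hξW
    let T := (O ⊓ W).toScheme
    let j : Spec (P.presheaf.stalk η) ⟶ T := (O ⊓ W).fromSpecStalkOfMem η (show η ∈ O ⊓ W from ⟨hO, hηW⟩)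
    haveI : IsDominant j := by
      refine ⟨fun z => ?_⟩
      have hgen : (O ⊓ W).ι (j (IsLocalRing.closedPoint _)) = η := by
        rw [← Scheme.Hom.comp_apply, Scheme.Opens.fromSpecStalkOfMem_ι, Scheme.fromSpecStalk_closedPoint]
      refine closure_mono (show {j (IsLocalRing.closedPoint _)} ⊆ Set.range j from Set.singleton_subset_iff.2 ⟨_, rfl⟩) ?_
      rw [← specializes_iff_mem_closure, ← (O ⊓ W).ι.isOpenEmbedding.isInducing.specializes_iff, hgen]
      exact (genericPoint_spec P).specializes trivial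
    haveI : IsReduced T := inferInstance
    refine ext_of_isDominant_of_isSeparated sA ?_ j ?_
    · rw [Category.assoc, hg, Category.assoc, hover, Scheme.homOfLE_ι_assoc, Scheme.homOfLE_ι_assoc]
    · have e₁ : j ≫ P.homOfLE (inf_le_left : O ⊓ W ≤ O) = O.fromSpecStalkOfMem η hO := by
        rw [← cancel_mono O.ι, Category.assoc, Scheme.homOfLE_ι, Scheme.Opens.fromSpecStalkOfMem_ι,
          Scheme.Opens.fromSpecStalkOfMem_ι]
      have e₂ : j ≫ P.homOfLE (inf_le_right : O ⊓ W ≤ W) =
          Spec.map (P.presheaf.stalkSpecializes hsp) ≫ W.fromSpecStalkOfMem ξ hξW := by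
        rw [← cancel_mono W.ι, Category.assoc, Scheme.homOfLE_ι, Scheme.Opens.fromSpecStalkOfMem_ι, Category.assoc,
          Scheme.Opens.fromSpecStalkOfMem_ι, Scheme.SpecMap_stalkSpecializes_fromSpecStalk]
      rw [← Category.assoc, e₁, ← Category.assoc, e₂, Category.assoc, ← hfac]
      exact hl₁.symm
  obtain ⟨g', h₁, h₂⟩ := NormalExtLib.exists_glue_sup O W g fW hagree
  refine ⟨O ⊔ W, le_sup_left, g', Or.inr hξW, ?_, h₁⟩
  refine NormalExtLib.hom_ext_sup ?_ ?_
  · rw [← Category.assoc, h₁, hg, Scheme.homOfLE_ι_assoc]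
  · rw [← Category.assoc, h₂, hover, Scheme.homOfLE_ι_assoc]

/-- A morphism on an open extends over finitely many points with discrete valuation rings. -/
theorem exists_extend_finite (s : Finset P) (hs : ∀ ξ ∈ s, IsDiscreteValuationRing (P.presheaf.stalk ξ))
    (O : P.Opens) (hO : genericPoint P ∈ O) (g : O.toScheme ⟶ A) (hg : g ≫ sA = O.ι ≫ sP) :
    ∃ (O' : P.Opens) (hle : O ≤ O') (g' : O'.toScheme ⟶ A), (∀ ξ ∈ s, ξ ∈ O') ∧ g' ≫ sA = O'.ι ≫ sP ∧
      P.homOfLE hle ≫ g' = g := by
  classical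
  induction s using Finset.induction with
  | empty => exact ⟨O, le_rfl, g, by simp, hg, by simp⟩
  | insert ξ s _ ih =>
    obtain ⟨O₁, h₁, g₁, hmem, hg₁, he₁⟩ := ih fun z hz => hs z (Finset.mem_insert_of_mem hz)
    haveI := hs ξ (Finset.mem_insert_self _ _)
    obtain ⟨O₂, h₂, g₂, hξ, hg₂, he₂⟩ := exists_extend_point sP sA O₁ (h₁ hO) g₁ hg₁ ξ
    refine ⟨O₂, h₁.trans h₂, g₂, ?_, hg₂, ?_⟩
    · intro z hz
      rcases Finset.mem_insert.1 hz with rfl | hz
      · exact hξ
      · exact h₂ (hmem z hz)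
    · rw [← he₁, ← he₂, Scheme.homOfLE_homOfLE_assoc]

end AlbLib
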