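import Groth.Agent.AlbLib.AlgClosed
import Groth.Agent.AlbLib.DvrTensor
import Groth.Agent.AlbLib.Extend
import Groth.Agent.DiagRepLib.Scheme
import Groth.Agent.NormCentLib.Chart
import Groth.Agent.FinHomLib.Affine
import Groth.Prelude

/-!
# Extending maps from a variety times an open piece of a complete curve
-/

set_option autoImplicit false
set_option linter.style.haveILetI false
set_option backward.isDefEq.respectTransparency false
set_option maxHeartbeats 1600000

universe u

open CategoryTheory CategoryTheory.Limits MonoidalCategory CartesianMonoidalCategory AlgebraicGeometry CoactBr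
open scoped TensorProduct

noncomputable section

namespace AlbLib

variable {k : Type u} [Field k] [IsAlgClosed k]

/-- The stalk at a point of an affine open is the localization. -/
def stalkEquiv {P : Scheme.{u}} {T : Type u} [CommRing T] (j : Spec (CommRingCat.of T) ⟶ P) [IsOpenImmersion j]
    (q : PrimeSpectrum T) : Localization.AtPrime q.asIdeal ≃+* P.presheaf.stalk (j q) :=
  letI : Algebra T ((Spec (CommRingCat.of T)).presheaf.stalk q) := StructureSheaf.stalkAlgebra T q
  haveI : IsLocalization.AtPrime ((Spec (CommRingCat.of T)).presheaf.stalk q) q.asIdeal :=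
    StructureSheaf.IsLocalization.to_stalk T q
  (IsLocalization.algEquiv q.asIdeal.primeCompl (Localization.AtPrime q.asIdeal)
    ((Spec (CommRingCat.of T)).presheaf.stalk q)).toRingEquiv.trans (asIso (j.stalkMap q)).commRingCatIsoToRingEquiv.symm

variable (R : Type u) [CommRing R] [IsDomain R] [Algebra k R] [Algebra.FiniteType k R]

/-- The generic point of a constant section of a relative curve has a discrete valuation ring. -/
theorem dvr_section (Cb : Over (Spec (CommRingCat.of k))) [IsIntegral Cb.left] [LocallyOfFiniteType Cb.hom]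
    (s : 𝟙_ (Over (Spec (CommRingCat.of k))) ⟶ Cb)
    (hdvr : IsDiscreteValuationRing (Cb.left.presheaf.stalk (s.left (IsLocalRing.closedPoint k))))
    (ηR : PrimeSpectrum R) (hηR : ηR.asIdeal = ⊥) [IsIntegral (sp k R ⊗ Cb).left] :
    IsDiscreteValuationRing ((sp k R ⊗ Cb).left.presheaf.stalk ((lift (𝟙 (sp k R)) (toUnit _ ≫ s)).left ηR)) := by
  obtain ⟨W, hW, hxW, -⟩ := exists_isAffineOpen_mem_and_subset (X := Cb.left)
    (x := s.left (IsLocalRing.closedPoint k)) (U := ⊤) trivial
  let A : Type u := Γ(Cb.left, W)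
  haveI : Nonempty W.toScheme := ⟨⟨_, hxW⟩⟩
  haveI : IsDomain A := inferInstanceAs (IsDomain Γ(Cb.left, W))
  obtain ⟨c, hc⟩ := Spec.map_surjective (hW.fromSpec ≫ Cb.hom)
  letI : Algebra k A := c.hom.toAlgebra
  let fs : Spec (CommRingCat.of A) ⟶ Cb.left := hW.fromSpec
  let jA : sp k A ⟶ Cb := Over.homMk fs (by
    show hW.fromSpec ≫ Cb.hom = Spec.map (CommRingCat.ofHom c.hom)
    rw [← hc]
    rfl)
  haveI : IsOpenImmersion fs := inferInstanceAs (IsOpenImmersion hW.fromSpec)
  haveI : IsOpenImmersion jA.left := inferInstanceAs (IsOpenImmersion fs)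
  haveI : Algebra.FiniteType k A := by
    haveI : LocallyOfFiniteType (sp k A).hom := by rw [← Over.w jA]; infer_instance
    have h' : LocallyOfFiniteType (Spec.map (CommRingCat.ofHom (algebraMap k A))) := this
    rw [HasRingHomProperty.Spec_iff (P := @LocallyOfFiniteType)] at h'
    exact RingHom.finiteType_algebraMap.mp h'
  -- the rational point lies in the chart
  have hfs : Set.range fs = (W : Set Cb.left) := hW.range_fromSpec
  have hsr : Set.range (toUnit (sp k k) ≫ s).left ⊆ (W : Set Cb.left) := by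
    rintro _ ⟨y, rfl⟩
    rw [Over.comp_left, Scheme.Hom.comp_apply,
      show (toUnit (sp k k)).left y = IsLocalRing.closedPoint k from @Subsingleton.elim (PrimeSpectrum k) _ _ _]
    exact hxW
  let l₀ := IsOpenImmersion.lift fs (toUnit (sp k k) ≫ s).left (hfs ▸ hsr)
  have hl₀ : l₀ ≫ fs = (toUnit (sp k k) ≫ s).left := IsOpenImmersion.lift_fac _ _ _
  let l : sp k k ⟶ sp k A := Over.homMk l₀ (by
    refine Eq.trans ?_ (Over.w (toUnit (sp k k) ≫ s))
    rw [← hl₀]
    exact (congrArg (l₀ ≫ ·) (Over.w jA)).symm.trans (Category.assoc _ _ _).symm)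
  obtain ⟨ev, hev⟩ := Groth.Agent.DiagRep.exists_pt l
  have hjev : pt ev ≫ jA = toUnit (sp k k) ≫ s := hev ▸ Over.OverMorphism.ext hl₀
  let qA : PrimeSpectrum A := ⟨RingHom.ker ev, RingHom.ker_isPrime _⟩
  haveI : qA.asIdeal.IsPrime := qA.2
  have hqA : fs qA = s.left (IsLocalRing.closedPoint k) := by
    have h0 : (pt ev).left (IsLocalRing.closedPoint k) = qA := PrimeSpectrum.ext (by
      show (IsLocalRing.maximalIdeal k).comap ev.toRingHom = RingHom.ker ev.toRingHom
      rw [IsLocalRing.isField_iff_maximalIdeal_eq.1 (Field.toIsField k), RingHom.ker_eq_comap_bot])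
    have h := congr($(congrArg CommaMorphism.left hjev) (IsLocalRing.closedPoint k))
    simp only [Over.comp_left, Scheme.Hom.comp_apply] at h
    rw [h0, show (toUnit (sp k k)).left (IsLocalRing.closedPoint k) = IsLocalRing.closedPoint k from
      @Subsingleton.elim (PrimeSpectrum k) _ _ _] at h
    exact h
  haveI : IsDiscreteValuationRing (Localization.AtPrime qA.asIdeal) := by
    have hd : IsDiscreteValuationRing (Cb.left.presheaf.stalk (fs qA)) := by rw [hqA]; exact hdvr
    exact IsDiscreteValuationRing.RingEquivClass.isDiscreteValuationRing (stalkEquiv fs qA).symm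
  -- a local parameter
  obtain ⟨ϖ, hϖ⟩ := IsDiscreteValuationRing.exists_irreducible (Localization.AtPrime qA.asIdeal)
  obtain ⟨⟨t, σ⟩, ht⟩ := IsLocalization.surj qA.asIdeal.primeCompl ϖ
  have hσu : IsUnit (algebraMap A (Localization.AtPrime qA.asIdeal) σ) := IsLocalization.map_units _ σ
  have hinj : Function.Injective (algebraMap A (Localization.AtPrime qA.asIdeal)) :=
    IsLocalization.injective _ qA.asIdeal.primeCompl_le_nonZeroDivisors
  have hmax : IsLocalRing.maximalIdeal (Localization.AtPrime qA.asIdeal) =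
      Ideal.span {algebraMap A (Localization.AtPrime qA.asIdeal) t} := by
    rw [← ht, Ideal.span_singleton_mul_right_unit hσu]
    exact hϖ.maximalIdeal_eq
  have ht_ev : ev t = 0 := by
    have h : algebraMap A (Localization.AtPrime qA.asIdeal) t ∈ IsLocalRing.maximalIdeal _ := by
      rw [hmax]; exact Ideal.mem_span_singleton_self _
    exact (IsLocalization.AtPrime.to_map_mem_maximal_iff (Localization.AtPrime qA.asIdeal) qA.asIdeal t).1 h
  have ht0 : t ≠ 0 := fun h => by
    rw [h, map_zero] at ht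
    exact hϖ.ne_zero (hσu.mul_left_eq_zero.1 ht)
  have hgen : ∀ a, ev a = 0 → ∃ h, ev h ≠ 0 ∧ t ∣ h * a := by
    intro a ha
    have h : algebraMap A (Localization.AtPrime qA.asIdeal) a ∈ IsLocalRing.maximalIdeal _ :=
      (IsLocalization.AtPrime.to_map_mem_maximal_iff (Localization.AtPrime qA.asIdeal) qA.asIdeal a).2 ha
    rw [hmax, Ideal.mem_span_singleton] at h
    obtain ⟨z, hz⟩ := h
    obtain ⟨⟨b, τ⟩, hb⟩ := IsLocalization.surj qA.asIdeal.primeCompl z
    refine ⟨τ, τ.2, b, hinj ?_⟩
    rw [map_mul, map_mul, hz, ← hb]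
    ring
  -- transport
  let iL : R →ₐ[k] R ⊗[k] A := Algebra.TensorProduct.includeLeft
  let iR : A →ₐ[k] R ⊗[k] A := Algebra.TensorProduct.includeRight
  haveI := Groth.Agent.NormCent.isIso_U (R := k) R A
  haveI : IsOpenImmersion (sp k R ◁ jA).left := Groth.Agent.FinHom.isOpenImmersion_whiskerLeft _ _
  let J : sp k (R ⊗[k] A) ⟶ sp k R ⊗ Cb := lift (pt iL) (pt iR) ≫ (sp k R ◁ jA)
  haveI : IsIso (lift (pt iL) (pt iR)).left :=
    inferInstanceAs (IsIso ((Over.forget _).map (lift (pt iL) (pt iR))))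
  let Jl : Spec (CommRingCat.of (R ⊗[k] A)) ⟶ (sp k R ⊗ Cb).left := J.left
  haveI : IsOpenImmersion Jl := by
    show IsOpenImmersion J.left
    rw [Over.comp_left]
    infer_instance
  haveI := geometricallyIntegral_of_isIntegral Cb
  haveI : LocallyOfFiniteType (sp k R).hom := by
    show LocallyOfFiniteType (Spec.map (CommRingCat.ofHom (algebraMap k R)))
    rw [HasRingHomProperty.Spec_iff (P := @LocallyOfFiniteType)]
    exact RingHom.finiteType_algebraMap.mpr inferInstance
  haveI : IsIntegral (sp k R).left := inferInstanceAs (IsIntegral (Spec (CommRingCat.of R)))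
  haveI : Algebra.FiniteType k (R ⊗[k] A) := Algebra.FiniteType.trans (S := R) inferInstance inferInstance
  haveI : IsNoetherianRing (R ⊗[k] A) := Algebra.FiniteType.isNoetherianRing k _
  haveI : Nonempty ↥(Spec (CommRingCat.of (R ⊗[k] A))) :=
    ⟨⟨RingHom.ker (sectionHom (R := R) ev), RingHom.ker_isPrime _⟩⟩
  haveI : IsIntegral (Spec (CommRingCat.of (R ⊗[k] A))) := isIntegral_of_isOpenImmersion Jl
  haveI : IsDomain (R ⊗[k] A) := (affine_isIntegral_iff (CommRingCat.of (R ⊗[k] A))).1 inferInstance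
  haveI : (RingHom.ker (sectionHom (R := R) ev)).IsPrime := RingHom.ker_isPrime _
  have hd := dvr_tensor (R := R) ev t ht_ev ht0 hgen
  have hsec : pt (sectionHom (R := R) ev) ≫ J = lift (𝟙 (sp k R)) (toUnit _ ≫ s) := by
    have e1 : (sectionHom (R := R) ev).comp iL = AlgHom.id k R := AlgHom.ext fun r => by
      simp [iL, sectionHom_tmul]
    have e2 : (sectionHom (R := R) ev).comp iR = (Algebra.ofId k R).comp ev := AlgHom.ext fun a => by
      simp [iR, sectionHom_tmul, Algebra.ofId_apply]
    show pt _ ≫ lift _ _ ≫ _ = _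
    rw [← Category.assoc, comp_lift, ← pt_comp, ← pt_comp, e1, e2, pt_id, lift_whiskerLeft, pt_comp,
      Category.assoc, hjev, ← Category.assoc]
    congr 2
    exact toUnit_unique _ _
  have hpt : (lift (𝟙 (sp k R)) (toUnit _ ≫ s)).left ηR =
      Jl ⟨RingHom.ker (sectionHom (R := R) ev), RingHom.ker_isPrime _⟩ := by
    rw [← hsec, Over.comp_left, Scheme.Hom.comp_apply]
    refine congrArg J.left (PrimeSpectrum.ext ?_)
    show ηR.asIdeal.comap (sectionHom (R := R) ev).toRingHom = RingHom.ker (sectionHom (R := R) ev).toRingHom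
    rw [hηR, RingHom.ker_eq_comap_bot]
  rw [hpt]
  exact IsDiscreteValuationRing.RingEquivClass.isDiscreteValuationRing
    (stalkEquiv Jl ⟨RingHom.ker (sectionHom (R := R) ev), RingHom.ker_isPrime _⟩)

/-- Over a dense open subset of the base, a morphism extends to the complete curve. -/
theorem exists_slice_extension (Cb : Over (Spec (CommRingCat.of k))) [IsIntegral Cb.left] [IsProper Cb.hom]
    (hdvr : ∀ x : Cb.left, IsClosed ({x} : Set Cb.left) → IsDiscreteValuationRing (Cb.left.presheaf.stalk x))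
    {Vo : Over (Spec (CommRingCat.of k))} (j : Vo ⟶ Cb) [IsOpenImmersion j.left]
    (hη : genericPoint Cb.left ∈ Set.range j.left)
    (A : Over (Spec (CommRingCat.of k))) [IsProper A.hom] (h : sp k R ⊗ Vo ⟶ A) :
    ∃ (r : R) (_ : r ≠ 0) (h' : sp k (Localization.Away r) ⊗ Cb ⟶ A),
      (sp k (Localization.Away r) ◁ j) ≫ h' =
        (pt (IsScalarTower.toAlgHom k R (Localization.Away r)) ▷ Vo) ≫ h := by
  haveI : LocallyOfFiniteType (sp k R).hom := by
    show LocallyOfFiniteType (Spec.map (CommRingCat.ofHom (algebraMap k R)))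
    rw [HasRingHomProperty.Spec_iff (P := @LocallyOfFiniteType)]
    exact RingHom.finiteType_algebraMap.mpr inferInstance
  haveI : IsIntegral (sp k R).left := inferInstanceAs (IsIntegral (Spec (CommRingCat.of R)))
  haveI : IsIntegral (sp k R ⊗ Cb).left := isIntegral_tensor _ _
  haveI : IsLocallyNoetherian Cb.left := LocallyOfFiniteType.isLocallyNoetherian Cb.hom
  haveI : CompactSpace Cb.left := QuasiCompact.compactSpace_of_compactSpace Cb.hom
  haveI : IsNoetherian Cb.left := ⟨⟩
  haveI : Flat (sp k R).hom := by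
    haveI : Subsingleton ↥(Spec (CommRingCat.of k)) := inferInstanceAs (Subsingleton (PrimeSpectrum k))
    infer_instance
  let ηR : PrimeSpectrum R := ⟨⊥, Ideal.isPrime_bot⟩
  -- finitely many missing closed points
  have hclosed : ∀ x : Cb.left, x ∉ Set.range j.left → IsClosed ({x} : Set Cb.left) := by
    intro x hx
    haveI : JacobsonSpace Cb.left := LocallyOfFiniteType.jacobsonSpace Cb.hom
    obtain ⟨y, hxy, hy⟩ := nonempty_inter_closedPoints (Z := closure ({x} : Set Cb.left))
      ⟨x, subset_closure rfl⟩ isClosed_closure.isLocallyClosed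
    haveI := hdvr y hy
    have hsp : x ⤳ y := specializes_iff_mem_closure.2 hxy
    obtain ⟨p, hp⟩ : x ∈ Set.range (Cb.left.fromSpecStalk y) := by rw [Scheme.range_fromSpecStalk]; exact hsp
    let p₀ : PrimeSpectrum (Cb.left.presheaf.stalk y) := p
    rcases eq_or_ne p₀.asIdeal ⊥ with h0 | h0
    · refine absurd ?_ hx
      have : genericPoint (Spec (Cb.left.presheaf.stalk y)) = p₀ := by
        rw [genericPoint_eq_bot_of_affine]; exact PrimeSpectrum.ext h0.symm
      have hg : Cb.left.fromSpecStalk y p₀ = genericPoint Cb.left := by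
        refine ((genericPoint_spec Cb.left).specializes trivial).antisymm ?_ |>.eq.symm
        have h1 : genericPoint Cb.left ∈ Set.range (Cb.left.fromSpecStalk y) := by
          rw [Scheme.range_fromSpecStalk]; exact (genericPoint_spec Cb.left).specializes trivial
        obtain ⟨q, hq⟩ := h1
        rw [← hq]
        exact ((PrimeSpectrum.le_iff_specializes p₀ q).1 (by
          show p₀.asIdeal ≤ _
          rw [h0]; exact bot_le)).map (Cb.left.fromSpecStalk y).continuous
      rw [← hp, hg]
      exact hη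
    · have hm : p₀ = IsLocalRing.closedPoint (Cb.left.presheaf.stalk y) :=
        PrimeSpectrum.ext (IsLocalRing.eq_maximalIdeal (p₀.2.isMaximal h0))
      have : x = y := by rw [← hp, show p = p₀ from rfl, hm, Scheme.fromSpecStalk_closedPoint]
      rwa [this]
  have hfin : ((Set.range j.left)ᶜ : Set Cb.left).Finite := by
    obtain ⟨S, hS, hSc, hSi, hSe⟩ := TopologicalSpace.NoetherianSpace.exists_finite_set_isClosed_irreducible
      (s := ((Set.range j.left)ᶜ : Set Cb.left)) j.left.isOpenEmbedding.isOpen_range.isClosed_compl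
    rw [hSe]
    refine hS.sUnion fun t ht => ?_
    obtain ⟨z, hz⟩ := QuasiSober.sober (hSi t ht) (hSc t ht)
    have hzt : z ∈ (Set.range j.left)ᶜ := by rw [hSe]; exact ⟨t, ht, hz.mem⟩
    rw [← hz.def, (hclosed z hzt).closure_eq]
    exact Set.finite_singleton z
  -- extend
  let sec : ∀ x : Cb.left, IsClosed ({x} : Set Cb.left) → (sp k R ⟶ sp k R ⊗ Cb) := fun x hx =>
    lift (𝟙 _) (toUnit _ ≫ ratPt Cb x hx)
  classical
  let pts : Finset (sp k R ⊗ Cb).left :=
    hfin.toFinset.attach.image fun x => (sec x.1 (hclosed x.1 (hfin.mem_toFinset.1 x.2))).left ηR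
  have hpts : ∀ ξ ∈ pts, IsDiscreteValuationRing ((sp k R ⊗ Cb).left.presheaf.stalk ξ) := by
    intro ξ hξ
    obtain ⟨⟨x, hx⟩, -, rfl⟩ := Finset.mem_image.1 hξ
    refine dvr_section R Cb (ratPt Cb x _) ?_ ηR rfl
    rw [ratPt_apply]
    exact hdvr x (hclosed x (hfin.mem_toFinset.1 hx))
  haveI : IsOpenImmersion (sp k R ◁ j).left := Groth.Agent.FinHom.isOpenImmersion_whiskerLeft _ _
  let O : (sp k R ⊗ Cb).left.Opens := (sp k R ◁ j).left.opensRange
  have hrange : ∀ p : (sp k R ⊗ Cb).left, (snd (sp k R) Cb).left p ∈ Set.range j.left → p ∈ O := by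
    rintro p ⟨v, hv⟩
    obtain ⟨z, hz, -⟩ := Scheme.exists_preimage_of_isPullback
      (Groth.Agent.FinHom.isPullback_whiskerLeft (sp k R) j) p v hv.symm
    exact ⟨z, hz⟩
  have hOη : genericPoint (sp k R ⊗ Cb).left ∈ O := by
    refine ((genericPoint_spec _).mem_open_set_iff O.2).2 ?_
    obtain ⟨v, hv⟩ := hη
    obtain ⟨z, hz, hz2⟩ := Scheme.exists_preimage_of_isPullback (IsPullback.of_hasPullback (sp k R).hom Cb.hom)
      ηR (j.left v) (@Subsingleton.elim (PrimeSpectrum k) _ _ _)
    exact ⟨z, trivial, hrange z ⟨v, hz2.symm⟩⟩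
  let g : O.toScheme ⟶ A.left := (sp k R ◁ j).left.isoOpensRange.inv ≫ h.left
  obtain ⟨O', hle, g', hmem, hg', hfac⟩ := exists_extend_finite (sp k R ⊗ Cb).hom A.hom pts hpts O hOη g (by
    rw [Category.assoc, Over.w h, ← Over.w (sp k R ◁ j), ← Category.assoc,
      Scheme.Hom.isoOpensRange_inv_comp])
  -- the open subset of the base
  let M : Set (PrimeSpectrum R) := ⋂ x ∈ hfin.toFinset.attach,
    (sec x.1 (hclosed x.1 (hfin.mem_toFinset.1 x.2))).left ⁻¹' (O' : Set (sp k R ⊗ Cb).left)
  have hMo : IsOpen M := isOpen_biInter_finset fun x _ => O'.2.preimage (Scheme.Hom.continuous _)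
  have hMη : ηR ∈ M := Set.mem_iInter₂.2 fun x hx => hmem _ (Finset.mem_image.2 ⟨x, hx, rfl⟩)
  obtain ⟨_, ⟨r, rfl⟩, hrη, hrM⟩ :=
    PrimeSpectrum.isTopologicalBasis_basic_opens.exists_subset_of_mem_open hMη hMo
  refine ⟨r, fun h0 => hrη (by rw [h0]; exact Submodule.zero_mem _), ?_⟩
  let R' := Localization.Away r
  let ρ : sp k R' ⟶ sp k R := pt (IsScalarTower.toAlgHom k R R')
  have hr : Set.range (ρ ▷ Cb).left ⊆ (O' : Set (sp k R ⊗ Cb).left) := by
    rintro _ ⟨z, rfl⟩
    let p := (ρ ▷ Cb).left z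
    by_cases hp : (snd (sp k R) Cb).left p ∈ Set.range j.left
    · exact hle (hrange p hp)
    · have hcl := hclosed _ hp
      obtain ⟨w, hw, -⟩ := Scheme.exists_preimage_of_isPullback
        (Groth.Agent.FinHom.isPullback_whiskerLeft (sp k R) (ratPt Cb _ hcl)) p (IsLocalRing.closedPoint k)
        (ratPt_apply Cb _ hcl _).symm
      have he : (sp k R ◁ ratPt Cb _ hcl) = fst _ _ ≫ sec _ hcl := by
        refine CartesianMonoidalCategory.hom_ext _ _ (by simp [sec]) ?_
        show (sp k R ◁ ratPt Cb _ hcl) ≫ snd _ _ = (fst _ _ ≫ lift _ _) ≫ snd _ _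
        rw [whiskerLeft_snd, Category.assoc, lift_snd, ← Category.assoc]
        congr 1
        exact toUnit_unique _ _
      rw [he, Over.comp_left, Scheme.Hom.comp_apply] at hw
      show p ∈ O'
      rw [← hw]
      have hfst : (fst (sp k R) (𝟙_ _)).left w = (fst (sp k R') Cb ≫ ρ).left z := by
        have h1 := congr($(congrArg CommaMorphism.left (lift_fst (𝟙 (sp k R)) (toUnit _ ≫ ratPt Cb _ hcl)))
          ((fst (sp k R) (𝟙_ _)).left w))
        simp only [Over.comp_left, Scheme.Hom.comp_apply, Over.id_left] at h1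
        rw [← whiskerRight_fst ρ Cb, Over.comp_left, Scheme.Hom.comp_apply]
        exact h1.symm.trans (congrArg _ hw)
      have hD : (fst (sp k R) (𝟙_ _)).left w ∈ M := by
        refine hrM ?_
        rw [hfst, Over.comp_left, Scheme.Hom.comp_apply]
        show r ∉ _
        intro hmem'
        exact (((fst (sp k R') Cb).left z : PrimeSpectrum R').2.ne_top) (Ideal.eq_top_of_isUnit_mem _ hmem'
          (IsLocalization.Away.algebraMap_isUnit r))
      exact Set.mem_iInter₂.1 hD ⟨_, hfin.mem_toFinset.2 hp⟩ (Finset.mem_attach _ _)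
  let l := IsOpenImmersion.lift O'.ι (ρ ▷ Cb).left (by rw [Scheme.Opens.range_ι]; exact hr)
  have hl : l ≫ O'.ι = (ρ ▷ Cb).left := IsOpenImmersion.lift_fac _ _ _
  refine ⟨Over.homMk (l ≫ g') (by rw [Category.assoc, hg', ← Category.assoc, hl]; exact Over.w _),
    Over.OverMorphism.ext ?_⟩
  show (sp k R' ◁ j).left ≫ l ≫ g' = (ρ ▷ Vo).left ≫ h.left
  have hh : h.left = (sp k R ◁ j).left.isoOpensRange.hom ≫ (sp k R ⊗ Cb).left.homOfLE hle ≫ g' := by
    rw [hfac]; simp [g]
  rw [hh, ← Category.assoc, ← Category.assoc, ← Category.assoc]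
  congr 1
  rw [← cancel_mono O'.ι, Category.assoc, hl, Category.assoc, Category.assoc, Scheme.homOfLE_ι,
    Scheme.Hom.isoOpensRange_hom_ι, ← Over.comp_left, ← Over.comp_left, whisker_exchange]

end AlbLib
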